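import Mathlib.GroupTheory.QuotientGroup.Basic
import Mathlib.GroupTheory.Index
import Mathlib.GroupTheory.OrderOfElement
import Mathlib.Algebra.BigOperators.Group.Finset.Basic
import Mathlib.Algebra.BigOperators.GroupWithZero.Action
import Mathlib.Data.Fintype.BigOperators
import Mathlib.Tactic.Group

/-!
# Twisted conjugation by an automorphism of `p`-power order

Let `α` be an automorphism of a finite group `K` with `α ^ p ^ b = 1`, let `Q` be an
`α`-invariant normal subgroup of index prime to `p`, and let `C` be the preimage of the fixed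
points of `α` on `K / Q`. Under twisted conjugation `k ↦ u * k * (α u)⁻¹` every element of `K`
is conjugate to an element of `C`, and the twisted conjugators between two elements of `C` lie
in `C`. This is all the Sylow theory that the relative Glauberman correspondence needs.
-/

namespace CfsgLib.RelGlauberman

variable {K : Type*} [Group K]

/-- If two fixed points are twisted conjugate by `u`, then `u` is fixed. -/
theorem twist_fixed [Finite K] (β : MulAut K) (N : ℕ) (hN : β ^ N = 1)
    (hco : (Nat.card K).Coprime N) (c d u : K) (hc : β c = c) (hd : β d = d)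
    (h : u * c * (β u)⁻¹ = d) : β u = u := by
  have h1 : β u = d⁻¹ * u * c := by rw [← h]; group
  have h2 : ∀ i : ℕ, (β ^ i) u = (d ^ i)⁻¹ * u * c ^ i := by
    intro i
    induction i with
    | zero => simp
    | succ i ih =>
      rw [pow_succ', MulAut.mul_apply, ih, map_mul, map_mul, map_inv, map_pow, map_pow, hc, hd, h1,
        pow_succ' c i, pow_succ' d i]
      group
  have h3 := h2 N
  rw [hN] at h3
  simp only [MulAut.one_apply] at h3
  have h4 : u * c ^ N * u⁻¹ = d ^ N := by
    have : d ^ N * u = u * c ^ N := by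
      conv_lhs => rw [h3]
      group
    rw [← this]; group
  have h5 : (u * c * u⁻¹) ^ N = d ^ N := by rw [conj_pow]; exact h4
  have h6 : u * c * u⁻¹ = d := (powCoprime hco).injective h5
  rw [h1, ← h6]; group

/-- Every element is twisted conjugate to a fixed point. -/
theorem twist_exists_fixed [Finite K] (β : MulAut K) (N : ℕ) (hN : β ^ N = 1)
    (hco : (Nat.card K).Coprime N) (k : K) :
    ∃ u c : K, β c = c ∧ u * c * (β u)⁻¹ = k := by
  classical
  haveI := Fintype.ofFinite K
  let F : Finset K := Finset.univ.filter fun c => β c = c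
  let f : K × K → K := fun x => x.1 * x.2 * (β x.1)⁻¹
  let S : Finset (K × K) := Finset.univ ×ˢ F
  have hle : S.card ≤ F.card * (S.image f).card := by
    apply Finset.card_le_mul_card_image
    intro y hy
    obtain ⟨⟨u₀, c₀⟩, hm₀, rfl⟩ := Finset.mem_image.1 hy
    refine Finset.card_le_card_of_injOn (fun x => u₀⁻¹ * x.1) ?_ ?_
    · intro x hx
      simp only [Finset.coe_filter, Set.mem_ofPred_eq, S, F, Finset.mem_product,
        Finset.mem_filter, Finset.mem_univ, true_and] at hx hm₀
      simp only [F, Finset.coe_filter, Finset.mem_univ, true_and, Set.mem_ofPred_eq]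
      refine twist_fixed β N hN hco x.2 c₀ _ hx.1 hm₀ ?_
      have := hx.2
      simp only [f] at this
      rw [map_mul, map_inv]
      calc u₀⁻¹ * x.1 * x.2 * ((β u₀)⁻¹ * β x.1)⁻¹
          = u₀⁻¹ * (x.1 * x.2 * (β x.1)⁻¹) * β u₀ := by group
        _ = c₀ := by rw [this]; group
    · intro x hx x' hx' he
      simp only [Finset.coe_filter, Set.mem_ofPred_eq] at hx hx'
      have he1 : x.1 = x'.1 := mul_left_cancel he
      have he2 : f x = f x' := hx.2.trans hx'.2.symm
      simp only [f, he1, mul_left_inj, mul_right_inj] at he2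
      exact Prod.ext he1 he2
  have hF : 0 < F.card := Finset.card_pos.2 ⟨1, by simp [F]⟩
  have hall : (Finset.univ : Finset K).card ≤ (S.image f).card := by
    have : S.card = Fintype.card K * F.card := by simp [S, Finset.card_product]
    rw [this, mul_comm] at hle
    exact Nat.le_of_mul_le_mul_left hle hF
  have heq := Finset.eq_of_subset_of_card_le (Finset.subset_univ _) hall
  obtain ⟨⟨u, c⟩, hm, hk⟩ := Finset.mem_image.1 (heq ▸ Finset.mem_univ k : k ∈ S.image f)
  exact ⟨u, c, by simpa [S, F] using hm, hk⟩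

/-- The data of one step of the relative Glauberman correspondence: an automorphism `α` with
`α ^ p ^ (b + 1) = 1`, an `α`-invariant normal subgroup `Q` of index prime to `p`, and the
preimage `C` of the fixed points on `K ⧸ Q`. -/
structure StepData (K : Type*) [Group K] where
  /-- the prime -/
  p : ℕ
  /-- the exponent: `α ^ p ^ (b + 1) = 1` -/
  b : ℕ
  /-- the normal subgroup of index prime to `p` -/
  Q : Subgroup K
  /-- the preimage of the fixed points -/
  C : Subgroup K
  /-- the automorphism -/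
  α : MulAut K
  prime : p.Prime
  normal : Q.Normal
  invariant : ∀ q : K, q ∈ Q → α q ∈ Q
  index_coprime : ¬ p ∣ Q.index
  order : α ^ p ^ (b + 1) = 1
  mem_C : ∀ k : K, k ∈ C ↔ α k * k⁻¹ ∈ Q

namespace StepData

variable (S : StepData K)

/-- The order `p ^ (b + 1)`. -/
def N : ℕ := S.p ^ (S.b + 1)

theorem invariant_iff (q : K) : S.α q ∈ S.Q ↔ q ∈ S.Q := by
  refine ⟨fun h => ?_, S.invariant q⟩
  have key : ∀ (i : ℕ) (x : K), x ∈ S.Q → (S.α ^ i) x ∈ S.Q := by
    intro i
    induction i with
    | zero => intro x hx; simpa using hx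
    | succ i ih => intro x hx; rw [pow_succ, MulAut.mul_apply]; exact ih _ (S.invariant x hx)
  have h1 := key (S.p ^ (S.b + 1) - 1) _ h
  have hpos : 0 < S.p ^ (S.b + 1) := pow_pos S.prime.pos _
  rw [← MulAut.mul_apply, ← pow_succ, Nat.sub_add_cancel hpos, S.order] at h1
  simpa using h1

theorem Q_le_C : S.Q ≤ S.C := fun q hq =>
  (S.mem_C q).2 (mul_mem (S.invariant q hq) (inv_mem hq))

theorem alpha_mem_C {c : K} (hc : c ∈ S.C) : S.α c ∈ S.C := by
  have h := (S.mem_C c).1 hc
  have : S.α c = (S.α c * c⁻¹) * c := by group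
  rw [this]
  exact mul_mem (S.Q_le_C h) hc

/-- The automorphism induced on `K ⧸ Q`. -/
def quotAut (hn : S.Q.Normal) : MulAut (K ⧸ S.Q) :=
  haveI := hn
  QuotientGroup.congr S.Q S.Q S.α (by
    ext x
    simp only [Subgroup.mem_map, MonoidHom.coe_coe]
    constructor
    · rintro ⟨y, hy, rfl⟩; exact S.invariant y hy
    · intro hx
      exact ⟨S.α.symm x, (S.invariant_iff _).1 (by simpa using hx), by simp⟩)

theorem quotAut_mk (k : K) :
    (haveI := S.normal; S.quotAut S.normal (k : K ⧸ S.Q) = ((S.α k : K) : K ⧸ S.Q)) := rfl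

theorem mem_C_iff_fixed (k : K) :
    (haveI := S.normal; k ∈ S.C ↔ S.quotAut S.normal (k : K ⧸ S.Q) = (k : K ⧸ S.Q)) := by
  haveI := S.normal
  rw [S.mem_C, quotAut_mk, QuotientGroup.eq_iff_div_mem, div_eq_mul_inv]

variable [Finite K]

theorem quot_coprime : (Nat.card (K ⧸ S.Q)).Coprime (S.p ^ (S.b + 1)) :=
  Nat.Coprime.pow_right _ ((S.prime.coprime_iff_not_dvd.2 S.index_coprime).symm)

theorem quotAut_pow : (haveI := S.normal; (S.quotAut S.normal) ^ (S.p ^ (S.b + 1)) = 1) := by
  haveI := S.normal
  have key : ∀ (i : ℕ) (k : K),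
      ((S.quotAut S.normal) ^ i) (k : K ⧸ S.Q) = (((S.α ^ i) k : K) : K ⧸ S.Q) := by
    intro i
    induction i with
    | zero => intro k; simp
    | succ i ih =>
      intro k
      rw [pow_succ, MulAut.mul_apply, quotAut_mk, ih, pow_succ, MulAut.mul_apply]
  ext x
  induction x using QuotientGroup.induction_on with
  | H k => rw [key, S.order]; rfl

/-- Every element of `K` is twisted conjugate to an element of `C`. -/
theorem exists_twist (k : K) : ∃ u : K, ∃ c ∈ S.C, u * c * (S.α u)⁻¹ = k := by
  haveI := S.normal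
  obtain ⟨u', c', hc', h⟩ :=
    twist_exists_fixed (S.quotAut S.normal) _ S.quotAut_pow S.quot_coprime (k : K ⧸ S.Q)
  obtain ⟨u, rfl⟩ := QuotientGroup.mk_surjective u'
  refine ⟨u, u⁻¹ * k * S.α u, ?_, by group⟩
  rw [mem_C_iff_fixed]
  have : ((u⁻¹ * k * S.α u : K) : K ⧸ S.Q) = c' := by
    rw [QuotientGroup.mk_mul, QuotientGroup.mk_mul, QuotientGroup.mk_inv, ← h, quotAut_mk]
    group
  rw [this, hc']

/-- Twisted conjugators between elements of `C` lie in `C`. -/
theorem mem_C_of_twist {u c : K} (hc : c ∈ S.C) (h : u * c * (S.α u)⁻¹ ∈ S.C) : u ∈ S.C := by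
  haveI := S.normal
  rw [mem_C_iff_fixed] at hc h ⊢
  refine twist_fixed (S.quotAut S.normal) _ S.quotAut_pow S.quot_coprime _ _ _ hc h ?_
  rw [quotAut_mk]; rfl

theorem twist_mem_C {u c : K} (hu : u ∈ S.C) (hc : c ∈ S.C) : u * c * (S.α u)⁻¹ ∈ S.C :=
  mul_mem (mul_mem hu hc) (inv_mem (S.alpha_mem_C hu))

open scoped Classical in
/-- A twisted class function has the same average over `K` as over `C`. -/
theorem card_smul_sum [Fintype K] {β : Type*} [AddCommMonoid β] (F : K → β)
    (hF : ∀ u k : K, F (u * k * (S.α u)⁻¹) = F k) :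
    Fintype.card S.C • ∑ k : K, F k = Fintype.card K • ∑ c : S.C, F c := by
  have hfib : ∀ k : K,
      (Finset.univ.filter fun x : K × S.C => x.1 * x.2 * (S.α x.1)⁻¹ = k).card =
        Fintype.card S.C := by
    intro k
    obtain ⟨u₀, c₀, hc₀, hk⟩ := S.exists_twist k
    refine (Finset.card_bij
      (fun (v : S.C) _ => ((u₀ * v : K),
        (⟨(v : K)⁻¹ * c₀ * S.α v, mul_mem (mul_mem (inv_mem v.2) hc₀) (S.alpha_mem_C v.2)⟩ : S.C)))
      ?_ ?_ ?_).symm
    · intro v _
      simp only [Finset.mem_filter, Finset.mem_univ, true_and]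
      rw [← hk, map_mul]; group
    · intro v _ v' _ he
      exact Subtype.ext (mul_left_cancel (congrArg Prod.fst he))
    · intro x hx
      simp only [Finset.mem_filter, Finset.mem_univ, true_and] at hx
      have hv : u₀⁻¹ * x.1 ∈ S.C := by
        apply S.mem_C_of_twist x.2.2
        have : u₀⁻¹ * x.1 * x.2 * (S.α (u₀⁻¹ * x.1))⁻¹ = c₀ := by
          rw [map_mul, map_inv]
          calc _ = u₀⁻¹ * (x.1 * x.2 * (S.α x.1)⁻¹) * S.α u₀ := by group
            _ = c₀ := by rw [hx, ← hk]; group
        rw [this]; exact hc₀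
      refine ⟨⟨_, hv⟩, Finset.mem_univ _, Prod.ext (by simp) (Subtype.ext ?_)⟩
      simp only [map_mul, map_inv]
      rw [← hk] at hx
      have : (x.2 : K) = x.1⁻¹ * (u₀ * c₀ * (S.α u₀)⁻¹) * S.α x.1 := by rw [← hx]; group
      rw [this]; group
  calc Fintype.card S.C • ∑ k : K, F k
      = ∑ k : K, ∑ x ∈ Finset.univ.filter
          (fun x : K × S.C => x.1 * x.2 * (S.α x.1)⁻¹ = k), F k := by
        rw [Finset.smul_sum]
        exact Finset.sum_congr rfl fun k _ => by rw [Finset.sum_const, hfib k]
    _ = ∑ k : K, ∑ x ∈ Finset.univ.filter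
          (fun x : K × S.C => x.1 * x.2 * (S.α x.1)⁻¹ = k), F x.2 :=
        Finset.sum_congr rfl fun k _ => Finset.sum_congr rfl fun x hx => by
          simp only [Finset.mem_filter, Finset.mem_univ, true_and] at hx
          rw [← hx, hF]
    _ = ∑ x : K × S.C, F x.2 := Finset.sum_fiberwise _ _ _
    _ = Fintype.card K • ∑ c : S.C, F c := by
        rw [Fintype.sum_prod_type]; simp

end StepData

end CfsgLib.RelGlauberman
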