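import Mathlib

/-!
# Fixed points in two permutation bases of a module in characteristic `p`

If a finite `p`-group permutes two bases of the same module over a field of characteristic `p`,
then the bases contain equally many fixed points: this number is the dimension of the image of
the invariants in the coinvariants. The same holds for the fixed points of a commuting involution
among these fixed points. No representation theory is used.
-/

namespace CfsgLib.RelGlauberman

open scoped Classical

section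
variable {k : Type*} [Field k] {p : ℕ} [Fact p.Prime] [CharP k p]
variable {P : Type*} [Group P] [Finite P]
variable {V : Type*} [AddCommGroup V] [Module k V] (ρ : P → V →ₗ[k] V)

omit [Fact p.Prime] [CharP k p] [Finite P] in
/-- The coinvariance submodule. -/
def coinvRel : Submodule k V := Submodule.span k (Set.range fun x : P × V => ρ x.1 x.2 - x.2)

omit [Fact p.Prime] [CharP k p] [Finite P] in
/-- The vectors fixed by all of `P`. -/
def fixedVectors : Submodule k V where
  carrier := {v | ∀ x, ρ x v = v}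
  add_mem' {a b} ha hb x := by rw [map_add, ha x, hb x]
  zero_mem' x := map_zero _
  smul_mem' c a ha x := by rw [map_smul, ha x]

/-- The sum of an invariant function over an invariant set without fixed points vanishes in
characteristic `p`. -/
theorem sum_invariant_eq_zero (hP : IsPGroup p P) {ι : Type*} [Fintype ι] [MulAction P ι]
    (hfree : ∀ i : ι, ∃ x : P, x • i ≠ i) {W : Type*} [AddCommGroup W] [Module k W] (f : ι → W)
    (hf : ∀ (x : P) i, f (x • i) = f i) : ∑ i, f i = 0 := by
  let π : ι → Quotient (MulAction.orbitRel P ι) := Quotient.mk''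
  rw [← Finset.sum_fiberwise (s := Finset.univ) (g := π) (f := f)]
  refine Finset.sum_eq_zero fun q _ => ?_
  induction q using Quotient.inductionOn' with
  | h i =>
    have hset : (Finset.univ.filter fun j => π j = Quotient.mk'' i) =
        (MulAction.orbit P i).toFinset := by
      ext j
      simp [π, Quotient.eq'', MulAction.orbitRel_apply]
    have hconst : ∀ j ∈ (MulAction.orbit P i).toFinset, f j = f i := fun j hj => by
      obtain ⟨x, rfl⟩ := Set.mem_toFinset.1 hj
      exact hf x i
    rw [hset, Finset.sum_congr rfl hconst, Finset.sum_const]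
    obtain ⟨n, hn⟩ := hP.card_orbit i
    have hn0 : n ≠ 0 := by
      rintro rfl
      rw [pow_zero, Nat.card_eq_one_iff_unique] at hn
      obtain ⟨x, hx⟩ := hfree i
      exact hx (congrArg Subtype.val (hn.1.elim ⟨x • i, MulAction.mem_orbit i x⟩
        ⟨i, MulAction.mem_orbit_self i⟩))
    rw [Set.toFinset_card, ← Nat.card_eq_fintype_card, hn, ← Nat.cast_smul_eq_nsmul k,
      Nat.cast_pow, CharP.cast_eq_zero, zero_pow hn0, zero_smul]

section basis
variable {ι : Type*} [Fintype ι] [MulAction P ι] (b : Module.Basis ι k V)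
  (hb : ∀ (x : P) i, ρ x (b i) = b (x • i))

/-- The map sending a function on the fixed points of the basis to its class in coinvariants. -/
noncomputable def fixedToCoinv : (MulAction.fixedPoints P ι → k) →ₗ[k] V ⧸ coinvRel ρ :=
  (coinvRel ρ).mkQ ∘ₗ Fintype.linearCombination k fun i => b (i : ι)

omit [Fact p.Prime] [CharP k p] [Finite P] in
theorem fixedToCoinv_apply (c : MulAction.fixedPoints P ι → k) :
    fixedToCoinv ρ b c = ∑ i, c i • Submodule.Quotient.mk (p := coinvRel ρ) (b (i : ι)) := by
  simp [fixedToCoinv, Fintype.linearCombination_apply]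

include hb in
omit [Fact p.Prime] [CharP k p] [Finite P] in
theorem repr_rho (x : P) (v : V) (i : ι) : b.repr (ρ x v) (x • i) = b.repr v i := by
  conv_lhs => rw [← b.sum_repr v]
  simp only [map_sum, map_smul, hb, Finsupp.coe_finsetSum, Finset.sum_apply, Finsupp.coe_smul,
    Pi.smul_apply, b.repr_self, Finsupp.single_apply, smul_eq_mul]
  rw [Finset.sum_eq_single i]
  · simp
  · intro j _ hj
    rw [if_neg fun h => hj (MulAction.injective x h), mul_zero]
  · simp

include hb in
omit [Fact p.Prime] [CharP k p] [Finite P] in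
theorem repr_fixed_of_coinvRel {v : V} (hv : v ∈ coinvRel ρ) (i : MulAction.fixedPoints P ι) :
    b.repr v (i : ι) = 0 := by
  induction hv using Submodule.span_induction with
  | mem y hy =>
    obtain ⟨⟨x, w⟩, rfl⟩ := hy
    have := repr_rho ρ b hb x w (i : ι)
    rw [i.2 x] at this
    simp [this]
  | zero => simp
  | add a c _ _ ha hc => simp [ha, hc]
  | smul t a _ ha => simp [ha]

include hb in
omit [Fact p.Prime] [CharP k p] [Finite P] in
theorem fixedToCoinv_injective : Function.Injective (fixedToCoinv ρ b) := by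
  rw [← LinearMap.ker_eq_bot, Submodule.eq_bot_iff]
  intro c hc
  rw [LinearMap.mem_ker, fixedToCoinv, LinearMap.comp_apply, Submodule.mkQ_apply,
    Submodule.Quotient.mk_eq_zero] at hc
  funext i
  have h := repr_fixed_of_coinvRel ρ b hb hc i
  simp only [Fintype.linearCombination_apply, map_sum, map_smul, b.repr_self,
    Finsupp.coe_finsetSum, Finset.sum_apply, Finsupp.coe_smul, Pi.smul_apply, smul_eq_mul] at h
  rw [Finset.sum_eq_single i] at h
  · simpa using h
  · intro j _ hj
    rw [Finsupp.single_eq_of_ne (fun e => hj (Subtype.ext e.symm)), mul_zero]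
  · simp

include hb in
theorem fixedToCoinv_range (hP : IsPGroup p P) :
    LinearMap.range (fixedToCoinv ρ b) = (fixedVectors ρ).map (coinvRel ρ).mkQ := by
  apply le_antisymm
  · rintro _ ⟨c, rfl⟩
    refine Submodule.mem_map.2 ⟨∑ i, c i • b (i : ι), ?_, ?_⟩
    · exact Submodule.sum_mem _ fun i _ => Submodule.smul_mem _ _ fun x => by rw [hb, i.2 x]
    · simp [fixedToCoinv_apply]
  · intro w hw
    obtain ⟨v, hv, rfl⟩ := Submodule.mem_map.1 hw
    refine ⟨fun i => b.repr v (i : ι), ?_⟩
    rw [fixedToCoinv_apply, Submodule.mkQ_apply]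
    conv_rhs => rw [← b.sum_repr v]
    rw [← Submodule.mkQ_apply, map_sum]
    simp only [map_smul, Submodule.mkQ_apply]
    have hinv : ∀ (x : P) i, b.repr v (x • i) = b.repr v i := fun x i => by
      conv_lhs => rw [← hv x]
      exact repr_rho ρ b hb x v i
    rw [← Finset.sum_filter_add_sum_filter_not Finset.univ
      (fun i => i ∈ MulAction.fixedPoints P ι)
      (fun i => b.repr v i • Submodule.Quotient.mk (p := coinvRel ρ) (b i))]
    rw [Finset.sum_subtype (p := fun i => i ∈ MulAction.fixedPoints P ι) _ (by simp)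
      (fun i => b.repr v i • Submodule.Quotient.mk (p := coinvRel ρ) (b i))]
    rw [left_eq_add]
    -- the non-fixed points form an invariant set
    let T : SubMulAction P ι :=
      { carrier := (MulAction.fixedPoints P ι)ᶜ
        smul_mem' := fun x i hi hfix => hi fun y => MulAction.injective x <| by
          have := hfix (x * y * x⁻¹)
          simpa [smul_smul] using this }
    rw [Finset.sum_subtype (p := fun i => i ∈ T) _ (fun x => by
        show _ ↔ x ∈ (MulAction.fixedPoints P ι)ᶜ
        simp) (fun i => b.repr v i • Submodule.Quotient.mk (p := coinvRel ρ) (b i))]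
    refine sum_invariant_eq_zero (k := k) (p := p) hP (ι := T) ?_ _ ?_
    · intro i
      obtain ⟨x, hx⟩ : ∃ x : P, x • (i : ι) ≠ i := by
        by_contra hc
        push Not at hc
        exact i.2 hc
      exact ⟨x, fun e => hx (congrArg Subtype.val e)⟩
    · intro x i
      simp only [SubMulAction.val_smul, hinv]
      congr 1
      rw [Submodule.Quotient.eq, ← hb]
      exact Submodule.subset_span ⟨(x, _), rfl⟩

end basis

variable {ι₁ ι₂ : Type*} [Fintype ι₁] [Fintype ι₂] [MulAction P ι₁] [MulAction P ι₂]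

omit [Fact p.Prime] [CharP k p] [Finite P] in
/-- An involution of a finite set: twice the dimension of its invariant functions is the size of
the set plus the number of fixed points. -/
theorem two_mul_finrank_invariant {F : Type*} [Fintype F] (τ : F → F) (hτ : ∀ i, τ (τ i) = i) :
    2 * Module.finrank k (LinearMap.ker (LinearMap.funLeft k k τ - LinearMap.id)) =
      Fintype.card F + Fintype.card {i // τ i = i} := by
  let e := Fintype.equivFin F
  let D := {i : F // e i ≤ e (τ i)}
  let S := LinearMap.ker (LinearMap.funLeft k k τ - LinearMap.id)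
  have hmem : ∀ c : F → k, c ∈ S ↔ ∀ i, c (τ i) = c i := fun c => by
    simp [S, sub_eq_zero, funext_iff, LinearMap.funLeft]
  let L : S ≃ₗ[k] (D → k) :=
    { toFun := fun c i => (c : F → k) i.1
      map_add' := fun _ _ => rfl
      map_smul' := fun _ _ => rfl
      invFun := fun d => ⟨fun i => if h : e i ≤ e (τ i) then d ⟨i, h⟩
          else d ⟨τ i, by rw [hτ]; exact le_of_lt (not_le.1 h)⟩, (hmem _).2 fun i => by
        by_cases h : e i ≤ e (τ i) <;> by_cases h' : e (τ i) ≤ e (τ (τ i))
        · have : τ i = i := e.injective (le_antisymm (by simpa [hτ] using h') h)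
          simp [this]
        · rw [hτ] at h'
          simp [h, h', hτ]
        · simp [h, h']
        · exfalso
          rw [hτ] at h'
          exact h (le_of_lt (not_le.1 h'))⟩
      left_inv := fun c => Subtype.ext <| funext fun i => by
        by_cases h : e i ≤ e (τ i)
        · simp [h]
        · simp [h, (hmem _).1 c.2 i]
      right_inv := fun d => funext fun i => by simp [i.2] }
  rw [L.finrank_eq, Module.finrank_fintype_fun_eq_card]
  let A := Finset.univ.filter fun i => e i ≤ e (τ i)
  let B := Finset.univ.filter fun i => e (τ i) ≤ e i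
  have hAB : A.card = B.card :=
    Finset.card_bij (fun i _ => τ i) (fun i hi => by simpa [A, B, hτ] using hi)
      (fun i _ j _ h => by simpa [hτ] using congrArg τ h)
      (fun j hj => ⟨τ j, by simpa [A, B, hτ] using hj, hτ j⟩)
  have hU : A ∪ B = Finset.univ := by
    ext i; simp [A, B, le_total]
  have hI : A ∩ B = Finset.univ.filter fun i => τ i = i := by
    ext i
    simp only [A, B, Finset.mem_inter, Finset.mem_filter, Finset.mem_univ, true_and]
    exact ⟨fun h => (e.injective (le_antisymm h.1 h.2)).symm, fun h => by simp [h]⟩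
  have hcard := Finset.card_union_add_card_inter A B
  rw [hU, hI, ← hAB] at hcard
  simp only [D, Fintype.card_subtype]
  simp only [Finset.card_univ] at hcard
  change 2 * A.card = _
  omega

omit [Fact p.Prime] [CharP k p] [Finite P] in
theorem fixed_of_commute {ι : Type*} [MulAction P ι] (b : Module.Basis ι k V) (σ : V →ₗ[k] V)
    (hσρ : ∀ x v, σ (ρ x v) = ρ x (σ v)) (τ : ι → ι)
    (hb : ∀ (x : P) i, ρ x (b i) = b (x • i)) (hσ : ∀ i, σ (b i) = b (τ i))
    (i : ι) (hi : ∀ x : P, x • i = i) (x : P) : x • τ i = τ i := by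
  apply b.injective
  rw [← hb, ← hσ, ← hσρ, hb, hi]

omit [Fact p.Prime] [CharP k p] [Finite P] in
theorem fixedToCoinv_comp {ι : Type*} [Fintype ι] [MulAction P ι] (b : Module.Basis ι k V)
    (σ : V →ₗ[k] V) (hI : coinvRel ρ ≤ (coinvRel ρ).comap σ)
    (t : MulAction.fixedPoints P ι → MulAction.fixedPoints P ι) (ht : ∀ i, t (t i) = i)
    (hσ : ∀ i : MulAction.fixedPoints P ι, σ (b i) = b (t i : ι))
    (c : MulAction.fixedPoints P ι → k) :
    (coinvRel ρ).mapQ (coinvRel ρ) σ hI (fixedToCoinv ρ b c) = fixedToCoinv ρ b (c ∘ t) := by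
  let et : MulAction.fixedPoints P ι ≃ MulAction.fixedPoints P ι := ⟨t, t, ht, ht⟩
  rw [fixedToCoinv_apply, fixedToCoinv_apply, map_sum]
  conv_rhs => rw [← et.sum_comp]
  refine Finset.sum_congr rfl fun i _ => ?_
  simp [et, hσ, ht]

omit [Fact p.Prime] [CharP k p] [Finite P] in
theorem card_fixed_pair {ι : Type*} [MulAction P ι] (τ : ι → ι)
    (t : MulAction.fixedPoints P ι → MulAction.fixedPoints P ι) (ht : ∀ i, (t i : ι) = τ i) :
    Nat.card {i // t i = i} = Nat.card {i : ι // τ i = i ∧ ∀ x : P, x • i = i} :=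
  Nat.card_congr
    { toFun := fun i => ⟨i.1.1, by rw [← ht]; exact congrArg Subtype.val i.2, i.1.2⟩
      invFun := fun i => ⟨⟨i.1, i.2.2⟩, Subtype.ext ((ht _).trans i.2.1)⟩
      left_inv := fun _ => rfl
      right_inv := fun _ => rfl }

variable (b₁ : Module.Basis ι₁ k V) (b₂ : Module.Basis ι₂ k V)

/-- Two permutation bases have equally many fixed points, also under a commuting involution. -/
theorem card_fixed_eq (hP : IsPGroup p P) (hb₁ : ∀ (x : P) i, ρ x (b₁ i) = b₁ (x • i))
    (hb₂ : ∀ (x : P) i, ρ x (b₂ i) = b₂ (x • i)) (σ : V →ₗ[k] V)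
    (hσρ : ∀ x v, σ (ρ x v) = ρ x (σ v)) (τ₁ : ι₁ → ι₁) (τ₂ : ι₂ → ι₂)
    (hσ₁ : ∀ i, σ (b₁ i) = b₁ (τ₁ i)) (hσ₂ : ∀ i, σ (b₂ i) = b₂ (τ₂ i))
    (hτ₁ : ∀ i, τ₁ (τ₁ i) = i) (hτ₂ : ∀ i, τ₂ (τ₂ i) = i) :
    Nat.card {i : ι₁ // τ₁ i = i ∧ ∀ x : P, x • i = i} =
      Nat.card {i : ι₂ // τ₂ i = i ∧ ∀ x : P, x • i = i} := by
  let t₁ : MulAction.fixedPoints P ι₁ → MulAction.fixedPoints P ι₁ := fun i =>
    ⟨τ₁ i, fixed_of_commute ρ b₁ σ hσρ τ₁ hb₁ hσ₁ i i.2⟩
  let t₂ : MulAction.fixedPoints P ι₂ → MulAction.fixedPoints P ι₂ := fun i =>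
    ⟨τ₂ i, fixed_of_commute ρ b₂ σ hσρ τ₂ hb₂ hσ₂ i i.2⟩
  let T₁ := fixedToCoinv ρ b₁
  let T₂ := fixedToCoinv ρ b₂
  have hr : LinearMap.range T₁ = LinearMap.range T₂ := by
    rw [fixedToCoinv_range ρ b₁ hb₁ hP, fixedToCoinv_range ρ b₂ hb₂ hP]
  let Ψ := (LinearEquiv.ofInjective T₁ (fixedToCoinv_injective ρ b₁ hb₁)).trans
    ((LinearEquiv.ofEq _ _ hr).trans
      (LinearEquiv.ofInjective T₂ (fixedToCoinv_injective ρ b₂ hb₂)).symm)
  have hΨ : ∀ c, T₂ (Ψ c) = T₁ c := fun c => by
    have : LinearEquiv.ofInjective T₂ (fixedToCoinv_injective ρ b₂ hb₂) (Ψ c) =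
        LinearEquiv.ofEq _ _ hr (LinearEquiv.ofInjective T₁ (fixedToCoinv_injective ρ b₁ hb₁) c) := by
      simp [Ψ]
    exact congrArg Subtype.val this
  have hI : coinvRel ρ ≤ (coinvRel ρ).comap σ := by
    refine Submodule.span_le.2 ?_
    rintro _ ⟨⟨x, v⟩, rfl⟩
    simp only [SetLike.mem_coe, Submodule.mem_comap, map_sub, hσρ]
    exact Submodule.subset_span ⟨(x, σ v), rfl⟩
  let σbar := (coinvRel ρ).mapQ (coinvRel ρ) σ hI
  have ht₁ : ∀ i, t₁ (t₁ i) = i := fun i => Subtype.ext (hτ₁ i)
  have ht₂ : ∀ i, t₂ (t₂ i) = i := fun i => Subtype.ext (hτ₂ i)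
  have hΨc : ∀ c, Ψ (c ∘ t₁) = Ψ c ∘ t₂ := fun c => by
    apply fixedToCoinv_injective ρ b₂ hb₂
    show T₂ _ = fixedToCoinv ρ b₂ _
    rw [hΨ, ← fixedToCoinv_comp ρ b₂ σ hI t₂ ht₂ (fun i => hσ₂ i),
      ← fixedToCoinv_comp ρ b₁ σ hI t₁ ht₁ (fun i => hσ₁ i)]
    exact congrArg ((coinvRel ρ).mapQ (coinvRel ρ) σ hI) (hΨ c).symm
  have hker : (LinearMap.ker (LinearMap.funLeft k k t₁ - LinearMap.id)).map Ψ.toLinearMap =
      LinearMap.ker (LinearMap.funLeft k k t₂ - LinearMap.id) := by
    ext d
    simp only [Submodule.mem_map, LinearMap.mem_ker, LinearMap.sub_apply, LinearMap.id_apply,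
      sub_eq_zero]
    constructor
    · rintro ⟨c, hc, rfl⟩
      have := hΨc c
      simp only [LinearMap.funLeft] at hc
      change Ψ c ∘ t₂ = Ψ c
      rw [← this]
      exact congrArg Ψ hc
    · intro hd
      refine ⟨Ψ.symm d, ?_, by simp⟩
      change Ψ.symm d ∘ t₁ = Ψ.symm d
      apply Ψ.injective
      rw [hΨc]
      simp only [LinearEquiv.apply_symm_apply]
      exact hd
  have hn : Fintype.card (MulAction.fixedPoints P ι₁) = Fintype.card (MulAction.fixedPoints P ι₂) := by
    simpa [Module.finrank_fintype_fun_eq_card] using Ψ.finrank_eq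
  have h1 := two_mul_finrank_invariant (k := k) t₁ ht₁
  have h2 := two_mul_finrank_invariant (k := k) t₂ ht₂
  rw [← hker, Ψ.finrank_map_eq] at h2
  have key : Nat.card {i // t₁ i = i} = Nat.card {i // t₂ i = i} := by
    simp only [← Nat.card_eq_fintype_card] at h1 h2 hn
    omega
  rw [← card_fixed_pair τ₁ t₁ fun _ => rfl, key, card_fixed_pair τ₂ t₂ fun _ => rfl]

end

end CfsgLib.RelGlauberman
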