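import Mathlib

/-!
# A rigidity lemma for sums of squares at roots of unity

If integers `m ξ j` (`ξ` in a finite index set, `j < p ^ (b + 1)`) satisfy
`∑ ξ, |∑ j, m ξ j * ζ ^ j| ^ 2 = 1` at every primitive `p ^ (b + 1)`-th root of unity `ζ`, then
exactly one of the totals `∑ j, m ξ j` is prime to `p` and it is `±1` modulo `p`.
-/

namespace CfsgLib.RelGlauberman

open Finset

/-- Orthogonality of the powers of a primitive root. -/
theorem root_orth {n : ℕ} (hn : 0 < n) {η : ℂ} (hη : IsPrimitiveRoot η n) (r s : Fin n) :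
    ∑ k : Fin n, (η ^ (r : ℕ)) ^ (k : ℕ) * (η⁻¹ ^ (s : ℕ)) ^ (k : ℕ) =
      if r = s then (n : ℂ) else 0 := by
  have hη0 : η ≠ 0 := hη.ne_zero hn.ne'
  simp only [← mul_pow]
  by_cases h : r = s
  · subst h
    simp [inv_pow, mul_inv_cancel₀ (pow_ne_zero (r : ℕ) hη0)]
  rw [if_neg h]
  have hne : η ^ (r : ℕ) * η⁻¹ ^ (s : ℕ) ≠ 1 := by
    intro he
    apply h
    apply Fin.ext
    rw [inv_pow, ← div_eq_mul_inv, div_eq_one_iff_eq (pow_ne_zero _ hη0)] at he
    exact hη.pow_inj r.2 s.2 he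
  have hpow : (η ^ (r : ℕ) * η⁻¹ ^ (s : ℕ)) ^ n = 1 := by
    rw [mul_pow, ← pow_mul, ← pow_mul, mul_comm (r : ℕ), mul_comm (s : ℕ), pow_mul, pow_mul,
      inv_pow, hη.pow_eq_one]
    simp
  rw [Fin.sum_univ_eq_sum_range (fun k => (η ^ (r : ℕ) * η⁻¹ ^ (s : ℕ)) ^ k), geom_sum_eq hne,
    hpow]
  simp

/-- Parseval for the powers of a primitive root. -/
theorem root_parseval {n : ℕ} (hn : 0 < n) {η : ℂ} (hη : IsPrimitiveRoot η n) (f : Fin n → ℂ) :
    ∑ k : Fin n, (∑ r, f r * (η ^ (k : ℕ)) ^ (r : ℕ)) *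
        (∑ r, f r * ((η ^ (k : ℕ))⁻¹) ^ (r : ℕ)) = (n : ℂ) * ∑ r, f r * f r := by
  have : ∀ k r s : Fin n, (f r * (η ^ (k : ℕ)) ^ (r : ℕ)) * (f s * ((η ^ (k : ℕ))⁻¹) ^ (s : ℕ)) =
      f r * f s * ((η ^ (r : ℕ)) ^ (k : ℕ) * (η⁻¹ ^ (s : ℕ)) ^ (k : ℕ)) := by
    intro k r s
    rw [← inv_pow, ← pow_mul, ← pow_mul, ← pow_mul, ← pow_mul, mul_comm (k : ℕ),
      mul_comm (k : ℕ) (s : ℕ)]
    ring
  simp_rw [Finset.sum_mul_sum, this]
  rw [Finset.sum_comm, Finset.mul_sum]
  refine Finset.sum_congr rfl fun r _ => ?_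
  rw [Finset.sum_comm]
  simp_rw [← Finset.mul_sum, root_orth hn hη]
  simp [mul_ite, mul_comm]

/-- `p` times the sum of squares minus the square of the sum. -/
def blockVar {p : ℕ} (d : Fin p → ℤ) : ℤ := (p : ℤ) * (∑ t, d t * d t) - (∑ t, d t) * ∑ t, d t

theorem blockVar_eq {p : ℕ} (d : Fin p → ℤ) :
    2 * blockVar d = ∑ t, ∑ u, (d t - d u) ^ 2 := by
  have : ∀ t u, (d t - d u) ^ 2 = d t * d t - 2 * (d t * d u) + d u * d u := fun t u => by ring
  simp only [this, Finset.sum_add_distrib, Finset.sum_sub_distrib, ← Finset.mul_sum,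
    Finset.sum_const, Finset.card_univ, Fintype.card_fin, nsmul_eq_mul, ← Finset.sum_mul, blockVar]
  ring_nf
  rw [← Finset.mul_sum]
  ring

theorem blockVar_nonneg {p : ℕ} (d : Fin p → ℤ) : 0 ≤ blockVar d := by
  have h := blockVar_eq d
  have : (0 : ℤ) ≤ ∑ t, ∑ u, (d t - d u) ^ 2 :=
    Finset.sum_nonneg fun _ _ => Finset.sum_nonneg fun _ _ => sq_nonneg _
  omega

theorem blockVar_const {p : ℕ} (d : Fin p → ℤ) (h : ∀ t u, d t = d u) :
    blockVar d = 0 ∧ ((∑ t, d t : ℤ) : ZMod p) = 0 := by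
  refine ⟨?_, ?_⟩
  · have h0 : ∑ t : Fin p, ∑ u : Fin p, (d t - d u) ^ 2 = 0 :=
      Finset.sum_eq_zero fun t _ => Finset.sum_eq_zero fun u _ => by rw [h t u]; ring
    have := blockVar_eq d
    omega
  · rcases Nat.eq_zero_or_pos p with hp | hp
    · subst hp; simp
    have : ∀ t, d t = d ⟨0, hp⟩ := fun t => h _ _
    rw [Finset.sum_congr rfl fun t _ => this t]
    simp

theorem blockVar_nonconst {p : ℕ} [Fact p.Prime] (d : Fin p → ℤ) (h : ¬ ∀ t u, d t = d u) :
    (p : ℤ) - 1 ≤ blockVar d ∧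
      (blockVar d = (p : ℤ) - 1 → ((∑ t, d t : ℤ) : ZMod p) = 1 ∨ ((∑ t, d t : ℤ) : ZMod p) = -1) := by
  have hp : 0 < p := (Fact.out : p.Prime).pos
  haveI : Nonempty (Fin p) := ⟨⟨0, hp⟩⟩
  obtain ⟨x, -, hx⟩ := Finset.exists_max_image univ d univ_nonempty
  obtain ⟨y, -, hy⟩ := Finset.exists_min_image univ d univ_nonempty
  have hx' : ∀ t, d t ≤ d x := fun t => hx t (mem_univ _)
  have hy' : ∀ t, d y ≤ d t := fun t => hy t (mem_univ _)
  have hxy : d y < d x := by
    by_contra hle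
    push Not at hle
    exact h fun t u => le_antisymm
      (((hx' t).trans hle).trans (hy' u)) (((hx' u).trans hle).trans (hy' t))
  let A := univ.filter fun t => d t = d x
  have hA : A.Nonempty := ⟨x, by simp [A]⟩
  by_cases htwo : d x = d y + 1
  · have hval : ∀ t, d t = d y + if d t = d x then 1 else 0 := by
      intro t; have := hx' t; have := hy' t
      split <;> omega
    have hsum : ∑ t, d t = (p : ℤ) * d y + (A.card : ℤ) := by
      rw [Finset.sum_congr rfl fun t _ => hval t, Finset.sum_add_distrib, Finset.sum_boole]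
      simp [A]
    have hsq : ∑ t, d t * d t = (p : ℤ) * (d y * d y) + (A.card : ℤ) * (2 * d y + 1) := by
      have : ∀ t, d t * d t = d y * d y + (if d t = d x then (1 : ℤ) else 0) * (2 * d y + 1) := by
        intro t
        by_cases hc : d t = d x
        · rw [if_pos hc, hc, htwo]; ring
        · have := hval t
          rw [if_neg hc] at this ⊢
          rw [this]; ring
      rw [Finset.sum_congr rfl fun t _ => this t, Finset.sum_add_distrib,
        ← Finset.sum_mul Finset.univ (fun t => if d t = d x then (1 : ℤ) else 0), Finset.sum_boole]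
      simp [A]
    have hV : blockVar d = (A.card : ℤ) * ((p : ℤ) - A.card) := by
      rw [blockVar, hsum, hsq]; ring
    have h1 : 1 ≤ A.card := hA.card_pos
    have h2 : A.card < p := by
      have : A ⊂ univ := Finset.ssubset_univ_iff.2 fun he => by
        have : y ∈ A := he ▸ mem_univ y
        simp [A] at this; omega
      simpa using Finset.card_lt_card this
    have hp' : (A.card : ℤ) < p := by exact_mod_cast h2
    have h1' : (1 : ℤ) ≤ A.card := by exact_mod_cast h1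
    have hlow : (p : ℤ) - 1 ≤ (A.card : ℤ) * ((p : ℤ) - A.card) := by
      have h3 : (0 : ℤ) ≤ ((A.card : ℤ) - 1) * ((p : ℤ) - A.card - 1) :=
        mul_nonneg (by linarith) (by linarith)
      linarith
    refine ⟨by rw [hV]; exact hlow, fun he => ?_⟩
    rw [hV] at he
    have hz : ((A.card : ℤ) - 1) * ((p : ℤ) - A.card - 1) = 0 := by linarith
    rcases mul_eq_zero.1 hz with hk | hk
    · left; rw [hsum]
      have : (A.card : ℤ) = 1 := by omega
      rw [this]; simp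
    · right; rw [hsum]
      have : (A.card : ℤ) = (p : ℤ) - 1 := by omega
      rw [this]; simp
  · -- the spread is at least `2`
    have hgap : 2 ≤ d x - d y := by omega
    have hlow : (p : ℤ) ≤ blockVar d := by
      have hne : x ≠ y := fun e => by subst e; omega
      have hu : ∀ u, u ≠ x → u ≠ y → 1 ≤ (d x - d u) ^ 2 + (d y - d u) ^ 2 := by
        intro u _ _
        by_cases hux : d x = d u
        · have : d y - d u ≤ -1 := by omega
          nlinarith [sq_nonneg (d x - d u)]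
        · have : 1 ≤ d x - d u := by have := hx' u; omega
          nlinarith [sq_nonneg (d y - d u)]
      have hrest := blockVar_eq d
      let R := (univ : Finset (Fin p)).erase x |>.erase y
      have hR : (R.card : ℤ) = (p : ℤ) - 2 := by
        have h3 : R.card + 2 = p := by
          simp only [R]
          rw [Finset.card_erase_of_mem (by simp [Ne.symm hne]), Finset.card_erase_of_mem (by simp)]
          simp
          have := (Fact.out : p.Prime).two_le
          omega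
        omega
      have split : ∀ g : Fin p → ℤ, ∑ t, g t = g x + g y + ∑ t ∈ R, g t := by
        intro g
        rw [← Finset.add_sum_erase univ g (mem_univ x),
          ← Finset.add_sum_erase (univ.erase x) g (by simp [Ne.symm hne] : y ∈ univ.erase x)]
        simp only [R]; ring
      have hxy2 : 4 ≤ (d x - d y) ^ 2 := by nlinarith
      have hrow : ∀ u ∈ R, 2 * (1 : ℤ) ≤ 2 * ((d x - d u) ^ 2 + (d y - d u) ^ 2) := fun u hu' => by
        simp [R] at hu'; linarith [hu u hu'.2 hu'.1]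
      have hcol : ∀ t, ∑ u, (d t - d u) ^ 2 =
          (d t - d x) ^ 2 + (d t - d y) ^ 2 + ∑ u ∈ R, (d t - d u) ^ 2 := fun t => split _
      rw [split, hcol x, hcol y] at hrest
      have h5 : ∑ t ∈ R, ((d x - d t) ^ 2 + (d y - d t) ^ 2) ≤ ∑ t ∈ R, ∑ u, (d t - d u) ^ 2 := by
        refine Finset.sum_le_sum fun t _ => ?_
        rw [hcol t, show (d x - d t) ^ 2 = (d t - d x) ^ 2 by ring,
          show (d y - d t) ^ 2 = (d t - d y) ^ 2 by ring]
        linarith [Finset.sum_nonneg (s := R) fun u (_ : u ∈ R) => sq_nonneg (d t - d u)]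
      have h6 : (R.card : ℤ) ≤ ∑ t ∈ R, ((d x - d t) ^ 2 + (d y - d t) ^ 2) := by
        simpa using Finset.sum_le_sum (s := R) (f := fun _ => (1 : ℤ))
          (fun u hu' => by have := hrow u hu'; linarith)
      simp only [Finset.sum_add_distrib] at h5 h6
      have h7 : (d x - d y) ^ 2 = (d y - d x) ^ 2 := by ring
      simp only [sub_self] at hrest
      nlinarith
    exact ⟨by linarith, fun he => absurd he (by linarith)⟩

/-- The rigidity lemma. -/
theorem root_sum_rigid {p : ℕ} [Fact p.Prime] {b : ℕ} {ι : Type*} [Fintype ι]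
    {ω : ℂ} (hω : IsPrimitiveRoot ω (p ^ (b + 1))) (m : ι → Fin (p ^ (b + 1)) → ℤ)
    (h : ∀ i : ℕ, ¬ p ∣ i → ∑ ξ, (∑ j, (m ξ j : ℂ) * (ω ^ i) ^ (j : ℕ)) *
      (∑ j, (m ξ j : ℂ) * ((ω ^ i)⁻¹) ^ (j : ℕ)) = 1) :
    ∃ ξ₀, ((((∑ j, m ξ₀ j : ℤ)) : ZMod p) = 1 ∨ ((∑ j, m ξ₀ j : ℤ) : ZMod p) = -1) ∧
      ∀ ξ, ξ ≠ ξ₀ → ((∑ j, m ξ j : ℤ) : ZMod p) = 0 := by
  classical
  have hp : p.Prime := Fact.out
  have hq : 0 < p ^ b := pow_pos hp.pos _
  have hN : p * p ^ b = p ^ (b + 1) := by ring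
  -- indices `j = r + q * t`
  let e : Fin p × Fin (p ^ b) ≃ Fin (p ^ (b + 1)) := finProdFinEquiv.trans (finCongr hN)
  have he : ∀ x, ((e x : Fin (p ^ (b + 1))) : ℕ) = x.2 + p ^ b * x.1 := fun x => rfl
  let d : ι → Fin (p ^ b) → Fin p → ℤ := fun ξ r t => m ξ (e (t, r))
  have hη : IsPrimitiveRoot (ω ^ p) (p ^ b) := hω.pow (pow_pos hp.pos _) hN.symm
  have hfull : ∀ ξ, ∑ j, (m ξ j : ℂ) * m ξ j = ∑ r, ∑ t, (d ξ r t : ℂ) * d ξ r t := by
    intro ξ
    rw [← e.sum_comp, Fintype.sum_prod_type, Finset.sum_comm]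
  have hsub : ∀ ξ (k : ℕ) (z : ℂ), (∀ t : ℕ, z ^ (p ^ b * t) = 1) →
      ∑ j, (m ξ j : ℂ) * z ^ (j : ℕ) = ∑ r, ((∑ t, d ξ r t : ℤ) : ℂ) * z ^ (r : ℕ) := by
    intro ξ k z hz
    rw [← e.sum_comp, Fintype.sum_prod_type, Finset.sum_comm]
    refine Finset.sum_congr rfl fun r _ => ?_
    rw [Int.cast_sum, Finset.sum_mul]
    refine Finset.sum_congr rfl fun t _ => ?_
    have hv : ((e (t, r) : Fin _) : ℕ) = r + p ^ b * t := he (t, r)
    simp only [d, hv, pow_add, hz, mul_one]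
  have key : ∑ ξ, ∑ r, (blockVar (d ξ r) : ℤ) = (p : ℤ) - 1 := by
    let g : ℕ → ℂ := fun i => ∑ ξ, (∑ j, (m ξ j : ℂ) * (ω ^ i) ^ (j : ℕ)) *
      (∑ j, (m ξ j : ℂ) * ((ω ^ i)⁻¹) ^ (j : ℕ))
    have hall : ∑ i : Fin (p ^ (b + 1)), g i =
        (p : ℂ) * (p : ℂ) ^ b * ∑ ξ, ∑ r, ∑ t, (d ξ r t : ℂ) * d ξ r t := by
      simp only [g]
      rw [Finset.sum_comm]
      simp_rw [root_parseval (pow_pos hp.pos _) hω, ← Finset.mul_sum, hfull]
      push_cast; ring
    have hmul : ∑ k : Fin (p ^ b), g (p * k) =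
        (p : ℂ) ^ b * ∑ ξ, ∑ r, ((∑ t, d ξ r t : ℤ) : ℂ) * ((∑ t, d ξ r t : ℤ) : ℂ) := by
      simp only [g]
      rw [Finset.sum_comm, Finset.mul_sum]
      refine Finset.sum_congr rfl fun ξ _ => ?_
      rw [← Nat.cast_pow, ← root_parseval hq hη]
      refine Finset.sum_congr rfl fun k _ => ?_
      have hz : ∀ t : ℕ, ((ω ^ p) ^ (k : ℕ)) ^ (p ^ b * t) = 1 := fun t => by
        rw [pow_mul, ← pow_mul (ω ^ p), mul_comm (k : ℕ), pow_mul (ω ^ p), hη.pow_eq_one]; simp
      rw [pow_mul, hsub ξ k _ hz, hsub ξ k _ fun t => by rw [inv_pow, hz, inv_one]]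
    have hsplit : ∑ i : Fin (p ^ (b + 1)), g i =
        ∑ k : Fin (p ^ b), g (p * k) + ((p : ℂ) ^ b * ((p : ℂ) - 1)) := by
      let e' : Fin (p ^ b) × Fin p ≃ Fin (p ^ (b + 1)) :=
        finProdFinEquiv.trans (finCongr (by ring))
      rw [← e'.sum_comp, Fintype.sum_prod_type]
      have : ∀ k : Fin (p ^ b), ∑ t : Fin p, g (e' (k, t)) = g (p * k) + ((p : ℂ) - 1) := by
        intro k
        rw [← Finset.add_sum_erase univ _ (mem_univ (⟨0, hp.pos⟩ : Fin p))]
        congr 1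
        · simp [e', finProdFinEquiv]
        rw [Finset.sum_congr rfl fun t ht => ?_]
        swap; exact (fun t => (1 : ℂ))
        · simp [Nat.cast_sub hp.one_le]
        · apply h
          simp only [e', Equiv.trans_apply, finCongr_apply, Fin.val_cast, finProdFinEquiv_apply_val]
          intro hd
          rw [Nat.dvd_add_left (dvd_mul_right _ _)] at hd
          have : (t : ℕ) = 0 := Nat.eq_zero_of_dvd_of_lt hd t.2
          exact (Finset.ne_of_mem_erase ht) (Fin.ext this)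
      rw [Finset.sum_congr rfl fun k _ => this k, Finset.sum_add_distrib]
      simp
      ring
    have hc : (p : ℂ) ^ b ≠ 0 := pow_ne_zero _ (Nat.cast_ne_zero.2 hp.ne_zero)
    have : ((∑ ξ, ∑ r, blockVar (d ξ r) : ℤ) : ℂ) = (p : ℂ) - 1 := by
      apply mul_left_cancel₀ hc
      rw [hall, hmul] at hsplit
      have e1 : ∀ ξ r, ((blockVar (d ξ r) : ℤ) : ℂ) = (p : ℂ) * (∑ t, (d ξ r t : ℂ) * d ξ r t)
          - ((∑ t, d ξ r t : ℤ) : ℂ) * ((∑ t, d ξ r t : ℤ) : ℂ) := fun ξ r => by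
        simp [blockVar]
      simp only [Int.cast_sum, e1, Finset.sum_sub_distrib, ← Finset.mul_sum] at hsplit ⊢
      linear_combination hsplit
    exact_mod_cast this
  -- exactly one block is non-constant
  have hex : ∃ ξ r, ¬ ∀ t u, d ξ r t = d ξ r u := by
    by_contra hc
    push Not at hc
    have h0 : ∑ ξ, ∑ r, blockVar (d ξ r) = 0 := Finset.sum_eq_zero fun ξ _ =>
      Finset.sum_eq_zero fun r _ => (blockVar_const _ (hc ξ r)).1
    have := hp.two_le
    omega
  obtain ⟨ξ₀, r₀, h0⟩ := hex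
  obtain ⟨hlow, heq⟩ := blockVar_nonconst _ h0
  have hnn : ∀ x : ι × Fin (p ^ b), 0 ≤ blockVar (d x.1 x.2) := fun x => blockVar_nonneg _
  have htot : blockVar (d ξ₀ r₀) +
      ∑ x ∈ (univ : Finset (ι × Fin (p ^ b))).erase (ξ₀, r₀), blockVar (d x.1 x.2) = (p : ℤ) - 1 := by
    have h1 := Finset.add_sum_erase univ (fun x : ι × Fin (p ^ b) => blockVar (d x.1 x.2))
      (mem_univ (ξ₀, r₀))
    simp only at h1
    rw [h1, Fintype.sum_prod_type, key]
  have hothers : ∀ ξ r, (ξ, r) ≠ (ξ₀, r₀) → ((∑ t, d ξ r t : ℤ) : ZMod p) = 0 := by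
    intro ξ r hne
    by_cases hc : ∀ t u, d ξ r t = d ξ r u
    · exact (blockVar_const _ hc).2
    have h1 := (blockVar_nonconst _ hc).1
    have h2 := Finset.single_le_sum (f := fun x : ι × Fin (p ^ b) => blockVar (d x.1 x.2))
      (fun x _ => hnn x) (mem_erase.2 ⟨hne, mem_univ _⟩)
    simp only at h2
    have := hp.two_le
    omega
  have htotal : ∀ ξ, ((∑ j, m ξ j : ℤ) : ZMod p) = ∑ r, ((∑ t, d ξ r t : ℤ) : ZMod p) := by
    intro ξ
    rw [← e.sum_comp, Fintype.sum_prod_type, Finset.sum_comm, Int.cast_sum]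
  refine ⟨ξ₀, ?_, fun ξ hξ => ?_⟩
  · rw [htotal, Finset.sum_eq_single r₀ (fun r _ hr => hothers _ _ (by simp [hr])) (by simp)]
    apply heq
    have h3 : 0 ≤ ∑ x ∈ (univ : Finset (ι × Fin (p ^ b))).erase (ξ₀, r₀), blockVar (d x.1 x.2) :=
      Finset.sum_nonneg fun x _ => hnn x
    omega
  · rw [htotal]
    exact Finset.sum_eq_zero fun r _ => hothers _ _ (by simp [hξ])

end CfsgLib.RelGlauberman
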