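import Cfsg.Agent.Characters.Classes
import Cfsg.Agent.Characters.Integrality
import Cfsg.Agent.RelGlauberman.RootSum
import Mathlib

/-!
# Characters of `K ⋊ ℤ/N` on a generating coset

`φ : Multiplicative (ZMod N) →* MulAut K` is an action of a cyclic group on a finite group `K`.
Every invariant irreducible character of `K` extends to the semidirect product, and on a coset
`K g` with `g` a generator the extensions form an orthonormal basis of the class functions.
-/

namespace CfsgLib.RelGlauberman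

attribute [-simp] SemidirectProduct.mk_eq_inl_mul_inr

open CfsgLib.Characters
open scoped ComplexConjugate

/-- The cyclic group of order `N`, written multiplicatively. -/
abbrev Cyc (N : ℕ) : Type := Multiplicative (ZMod N)

variable {K : Type*} [Group K] {N : ℕ} [NeZero N] (φ : Cyc N →* MulAut K)

/-- The character `g ↦ ω ^ (j g)` of the cyclic quotient. -/
noncomputable def cycChar {ω : ℂ} (hω : ω ^ N = 1) (j : ℕ) : K ⋊[φ] Cyc N →* ℂ where
  toFun x := (ω ^ (Multiplicative.toAdd x.right).val) ^ j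
  map_one' := by simp
  map_mul' x y := by
    rw [SemidirectProduct.mul_right, toAdd_mul, ← mul_pow, ← pow_add, ZMod.val_add,
      ← pow_eq_pow_mod _ hω]

theorem cycChar_apply {ω : ℂ} (hω : ω ^ N = 1) (j : ℕ) (x : K ⋊[φ] Cyc N) :
    cycChar φ hω j x = (ω ^ (Multiplicative.toAdd x.right).val) ^ j := rfl

/-- The representation of degree one attached to a homomorphism into `ℂ`. -/
noncomputable def scalarRep {G : Type*} [Group G] (f : G →* ℂ) : Representation ℂ G ℂ where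
  toFun g := f g • LinearMap.id
  map_one' := by rw [map_one, one_smul]; rfl
  map_mul' g h := by ext; simp [map_mul]; ring

theorem isCharacter_hom {G : Type*} [Group G] (f : G →* ℂ) : Cfsg.IsCharacter G ⇑f := by
  convert isCharacter_character (scalarRep f)
  funext g
  show f g = LinearMap.trace ℂ ℂ (f g • LinearMap.id)
  rw [trace_smul_id]
  simp

variable [Finite K]

instance finite_semidirect : Finite (K ⋊[φ] Cyc N) :=
  Finite.of_equiv _ SemidirectProduct.equivProd.symm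

noncomputable local instance : Fintype K := Fintype.ofFinite K
noncomputable local instance : Fintype (K ⋊[φ] Cyc N) := Fintype.ofFinite _

theorem card_semidirect_cyc : Nat.card (K ⋊[φ] Cyc N) = Nat.card K * N := by
  rw [Nat.card_congr SemidirectProduct.equivProd, Nat.card_prod]
  simp

/-- The inner product of two functions on the coset `K g`. -/
noncomputable def cosetInner (g : Cyc N) (F F' : K ⋊[φ] Cyc N → ℂ) : ℂ :=
  (Nat.card K : ℂ)⁻¹ * ∑ k : K, F ⟨k, g⟩ * conj (F' ⟨k, g⟩)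

theorem classInner_semidirect (F F' : K ⋊[φ] Cyc N → ℂ) :
    Cfsg.classInner F F' = (N : ℂ)⁻¹ * ∑ g : Cyc N, cosetInner φ g F F' := by
  rw [Cfsg.classInner, card_semidirect_cyc, ← SemidirectProduct.equivProd.symm.sum_comp,
    Fintype.sum_prod_type, Finset.sum_comm]
  simp only [cosetInner, ← Finset.mul_sum, Nat.cast_mul, mul_inv_rev, mul_assoc]
  rfl

theorem cosetInner_congr {g : Cyc N} {F₁ F₂ F' : K ⋊[φ] Cyc N → ℂ}
    (h : ∀ k, F₁ ⟨k, g⟩ = F₂ ⟨k, g⟩) : cosetInner φ g F₁ F' = cosetInner φ g F₂ F' := by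
  simp only [cosetInner, h]

theorem cosetInner_sum_left {ι : Type*} (s : Finset ι) (g : Cyc N) (c : ι → ℂ)
    (F : ι → K ⋊[φ] Cyc N → ℂ) (F' : K ⋊[φ] Cyc N → ℂ) :
    cosetInner φ g (∑ i ∈ s, c i • F i) F' = ∑ i ∈ s, c i * cosetInner φ g (F i) F' := by
  simp only [cosetInner, Finset.sum_apply, Pi.smul_apply, smul_eq_mul, Finset.sum_mul,
    Finset.mul_sum]
  rw [Finset.sum_comm]
  exact Finset.sum_congr rfl fun _ _ => Finset.sum_congr rfl fun _ _ => by ring

theorem cosetInner_conj_symm (g : Cyc N) (F F' : K ⋊[φ] Cyc N → ℂ) :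
    cosetInner φ g F F' = conj (cosetInner φ g F' F) := by
  simp only [cosetInner, map_mul, map_inv₀, Complex.conj_natCast, map_sum, Complex.conj_conj]
  congr 1
  exact Finset.sum_congr rfl fun _ _ => mul_comm _ _

/-- The restriction of a function on the semidirect product to `K`. -/
def resBase (F : K ⋊[φ] Cyc N → ℂ) : K → ℂ := fun k => F ⟨k, 1⟩

theorem cosetInner_one (F F' : K ⋊[φ] Cyc N → ℂ) :
    cosetInner φ 1 F F' = Cfsg.classInner (resBase φ F) (resBase φ F') := rfl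

theorem isCharacter_resBase {F : K ⋊[φ] Cyc N → ℂ} (h : Cfsg.IsCharacter _ F) :
    Cfsg.IsCharacter K (resBase φ F) :=
  isCharacter_comp SemidirectProduct.inl h

variable {ω : ℂ} (hω : IsPrimitiveRoot ω N)

theorem norm_cycChar (j : ℕ) (x : K ⋊[φ] Cyc N) :
    cycChar φ hω.pow_eq_one j x * conj (cycChar φ hω.pow_eq_one j x) = 1 := by
  have h : ‖cycChar φ hω.pow_eq_one j x‖ = 1 := by
    rw [cycChar_apply, norm_pow, norm_pow, Complex.norm_eq_one_of_pow_eq_one hω.pow_eq_one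
      (NeZero.ne N)]
    simp
  rw [Complex.mul_conj, Complex.normSq_eq_norm_sq, h]
  simp

/-- The twist of an irreducible character by a character of the cyclic quotient. -/
noncomputable def twist (Φ : Cfsg.IrrCharacter (K ⋊[φ] Cyc N)) (j : Fin N) :
    Cfsg.IrrCharacter (K ⋊[φ] Cyc N) :=
  ⟨(Φ : K ⋊[φ] Cyc N → ℂ) * ⇑(cycChar φ hω.pow_eq_one j), by
    refine isIrr_of_classInner_self (isCharacter_mul (isCharacter_of_isIrr Φ.2) (isCharacter_hom _)) ?_
    rw [← classInner_isIrr_self Φ.2]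
    simp only [Cfsg.classInner, Pi.mul_apply, map_mul]
    congr 1
    refine Finset.sum_congr rfl fun x _ => ?_
    rw [mul_mul_mul_comm, norm_cycChar φ hω, mul_one]⟩

theorem twist_apply (Φ : Cfsg.IrrCharacter (K ⋊[φ] Cyc N)) (j : Fin N) (k : K) (g : Cyc N) :
    (twist φ hω Φ j : K ⋊[φ] Cyc N → ℂ) ⟨k, g⟩ =
      (ω ^ (Multiplicative.toAdd g).val) ^ (j : ℕ) * (Φ : K ⋊[φ] Cyc N → ℂ) ⟨k, g⟩ := by
  simp [twist, cycChar_apply, mul_comm]

theorem cosetInner_twist (Φ : Cfsg.IrrCharacter (K ⋊[φ] Cyc N)) (j : Fin N) (g : Cyc N)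
    (F : K ⋊[φ] Cyc N → ℂ) : cosetInner φ g (twist φ hω Φ j : K ⋊[φ] Cyc N → ℂ) F =
      (ω ^ (Multiplicative.toAdd g).val) ^ (j : ℕ) * cosetInner φ g (Φ : K ⋊[φ] Cyc N → ℂ) F := by
  simp only [cosetInner, twist_apply, Finset.mul_sum]
  exact Finset.sum_congr rfl fun _ _ => by ring

include hω in
/-- Orthogonality of the powers of a primitive root, indexed by the cyclic group. -/
theorem cyc_orth (g h : Cyc N) :
    ∑ j : Fin N, (ω ^ (Multiplicative.toAdd h).val) ^ (j : ℕ) *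
      ((ω ^ (Multiplicative.toAdd g).val)⁻¹) ^ (j : ℕ) = if h = g then (N : ℂ) else 0 := by
  have := root_orth (NeZero.pos N) hω
    ⟨(Multiplicative.toAdd h).val, ZMod.val_lt _⟩ ⟨(Multiplicative.toAdd g).val, ZMod.val_lt _⟩
  simp only [inv_pow, Fin.mk.injEq] at this ⊢
  rw [this]
  by_cases hh : h = g
  · simp [hh]
  · rw [if_neg hh, if_neg fun e => hh (Multiplicative.toAdd.injective (ZMod.val_injective N e))]

/-- The multiplicities of the twists determine the coset inner products. -/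
theorem cosetInner_eq_sum_mult (Φ : Cfsg.IrrCharacter (K ⋊[φ] Cyc N)) (F : K ⋊[φ] Cyc N → ℂ)
    (g : Cyc N) : cosetInner φ g (Φ : K ⋊[φ] Cyc N → ℂ) F =
      ∑ j : Fin N, ((ω ^ (Multiplicative.toAdd g).val)⁻¹) ^ (j : ℕ) *
        Cfsg.classInner (twist φ hω Φ j : K ⋊[φ] Cyc N → ℂ) F := by
  simp only [classInner_semidirect, cosetInner_twist φ hω, Finset.mul_sum]
  rw [Finset.sum_comm, Finset.sum_eq_single g]
  · rw [show ∑ j : Fin N, ((ω ^ (Multiplicative.toAdd g).val)⁻¹) ^ (j : ℕ) * ((N : ℂ)⁻¹ *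
      ((ω ^ (Multiplicative.toAdd g).val) ^ (j : ℕ) * cosetInner φ g (Φ : K ⋊[φ] Cyc N → ℂ) F)) =
      (∑ j : Fin N, (ω ^ (Multiplicative.toAdd g).val) ^ (j : ℕ) *
      ((ω ^ (Multiplicative.toAdd g).val)⁻¹) ^ (j : ℕ)) * ((N : ℂ)⁻¹ * cosetInner φ g Φ.1 F) from by
        rw [Finset.sum_mul]; exact Finset.sum_congr rfl fun _ _ => by ring]
    rw [cyc_orth hω, if_pos rfl, ← mul_assoc,
      mul_inv_cancel₀ (Nat.cast_ne_zero.2 (NeZero.ne N)), one_mul]
  · intro h _ hne
    rw [show ∑ j : Fin N, ((ω ^ (Multiplicative.toAdd g).val)⁻¹) ^ (j : ℕ) * ((N : ℂ)⁻¹ *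
      ((ω ^ (Multiplicative.toAdd h).val) ^ (j : ℕ) * cosetInner φ h (Φ : K ⋊[φ] Cyc N → ℂ) F)) =
      (∑ j : Fin N, (ω ^ (Multiplicative.toAdd h).val) ^ (j : ℕ) *
      ((ω ^ (Multiplicative.toAdd g).val)⁻¹) ^ (j : ℕ)) * ((N : ℂ)⁻¹ * cosetInner φ h Φ.1 F) from by
        rw [Finset.sum_mul]; exact Finset.sum_congr rfl fun _ _ => by ring]
    rw [cyc_orth hω, if_neg hne, zero_mul]
  · simp

/-- The sum of the multiplicities of the twists is the inner product of the restrictions. -/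
theorem sum_mult_twist (Φ : Cfsg.IrrCharacter (K ⋊[φ] Cyc N)) (F : K ⋊[φ] Cyc N → ℂ) :
    ∑ j : Fin N, Cfsg.classInner (twist φ hω Φ j : K ⋊[φ] Cyc N → ℂ) F =
      Cfsg.classInner (resBase φ (Φ : K ⋊[φ] Cyc N → ℂ)) (resBase φ F) := by
  have h := cosetInner_eq_sum_mult φ hω Φ F 1
  rw [cosetInner_one] at h
  simpa using h.symm

/-- An irreducible character equal to one of its non-trivial twists vanishes on generating
cosets. -/
theorem eq_zero_of_twist_eq (Φ : Cfsg.IrrCharacter (K ⋊[φ] Cyc N)) (j : Fin N)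
    (hj : (j : ℕ) ≠ 0) (h : twist φ hω Φ j = Φ) (g : Cyc N)
    (hg : Nat.Coprime (Multiplicative.toAdd g).val N) (k : K) :
    (Φ : K ⋊[φ] Cyc N → ℂ) ⟨k, g⟩ = 0 := by
  have h1 := twist_apply φ hω Φ j k g
  rw [h] at h1
  by_contra hne
  have h2 : (ω ^ (Multiplicative.toAdd g).val) ^ (j : ℕ) = 1 := by
    have : ((ω ^ (Multiplicative.toAdd g).val) ^ (j : ℕ) - 1) * (Φ : K ⋊[φ] Cyc N → ℂ) ⟨k, g⟩ = 0 := by
      linear_combination -h1
    rcases mul_eq_zero.1 this with hz | hz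
    · exact sub_eq_zero.1 hz
    · exact absurd hz hne
  rw [← pow_mul] at h2
  exact hj (Nat.eq_zero_of_dvd_of_lt
    (hg.symm.dvd_of_dvd_mul_left ((hω.pow_eq_one_iff_dvd _).1 h2)) j.2)

/-- An irreducible character different from its non-trivial twists restricts irreducibly. -/
theorem isIrr_resBase (Φ : Cfsg.IrrCharacter (K ⋊[φ] Cyc N))
    (h : ∀ j : Fin N, (j : ℕ) ≠ 0 → twist φ hω Φ j ≠ Φ) :
    Cfsg.IsIrrCharacter K (resBase φ (Φ : K ⋊[φ] Cyc N → ℂ)) := by
  classical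
  refine isIrr_of_classInner_self (isCharacter_resBase φ (isCharacter_of_isIrr Φ.2)) ?_
  rw [← sum_mult_twist φ hω Φ Φ.1, Finset.sum_eq_single (⟨0, NeZero.pos N⟩ : Fin N)]
  · have : twist φ hω Φ ⟨0, NeZero.pos N⟩ = Φ := by
      apply Subtype.ext
      funext x
      obtain ⟨k, g⟩ := x
      rw [twist_apply]
      simp
    rw [this]
    exact classInner_isIrr_self Φ.2
  · intro j _ hj
    rw [classInner_irr, if_neg (h j fun e => hj (Fin.ext e))]
  · simp

omit [Finite K] in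
/-- The characters of `K` invariant under the action. -/
abbrev InvIrr : Type _ :=
  {χ : Cfsg.IrrCharacter K // ∀ (g : Cyc N) (k : K), (χ : K → ℂ) (φ g k) = (χ : K → ℂ) k}

omit [Finite K] in
theorem classFunction_base_inv {F : K ⋊[φ] Cyc N → ℂ} (hF : Cfsg.IsClassFunction _ F)
    (g : Cyc N) (k : K) : resBase φ F (φ g k) = resBase φ F k := by
  show F (SemidirectProduct.inl (φ g k)) = F (SemidirectProduct.inl k)
  rw [SemidirectProduct.inl_aut, map_inv]
  exact hF _ _

include hω in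
/-- An invariant irreducible character extends to the semidirect product. -/
theorem exists_extension (χ : InvIrr φ) :
    ∃ Φ : Cfsg.IrrCharacter (K ⋊[φ] Cyc N), resBase φ (Φ : K ⋊[φ] Cyc N → ℂ) = (χ.1 : K → ℂ) := by
  obtain ⟨⟨χ, hχi⟩, hinv⟩ := χ
  obtain ⟨n, ρ, hρ, hρχ⟩ := hχi
  let a : Cyc N := Multiplicative.ofAdd 1
  let ρ' : Representation ℂ K (Fin n → ℂ) := ρ.comp (φ a).toMonoidHom
  have hchar : ρ'.character = ρ.character := by
    funext k
    have := hinv a k
    simp only at this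
    rw [← hρχ] at this
    exact this
  obtain ⟨e⟩ := equiv_of_char_eq ρ ρ' hchar.symm
  let T₀ : (Fin n → ℂ) →ₗ[ℂ] (Fin n → ℂ) := e.toLinearEquiv.toLinearMap
  have hT₀ : ∀ k x, T₀ (ρ k x) = ρ (φ a k) (T₀ x) := fun k x => equiv_map e k x
  have hTpow : ∀ (m : ℕ) k x, (T₀ ^ m) (ρ k x) = ρ ((φ a ^ m) k) ((T₀ ^ m) x) := by
    intro m
    induction m with
    | zero => intro k x; simp
    | succ m ih =>
      intro k x
      rw [pow_succ', Module.End.mul_apply, ih, hT₀, pow_succ', MulAut.mul_apply,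
        Module.End.mul_apply]
  have ha : a ^ N = 1 := by
    apply Multiplicative.toAdd.injective
    simp [a]
  haveI := hρ
  obtain ⟨c, hc⟩ := schur_scalar ρ (T₀ ^ N) fun k x => by
    rw [hTpow, ← map_pow, ha, map_one]; rfl
  have hinj : Function.Injective (T₀ ^ N : (Fin n → ℂ) →ₗ[ℂ] (Fin n → ℂ)) := by
    rw [Module.End.coe_pow]
    exact e.toLinearEquiv.injective.iterate N
  haveI := nontrivial_of_isIrreducible ρ
  have hc0 : c ≠ 0 := by
    rintro rfl
    obtain ⟨x, hx⟩ := exists_ne (0 : Fin n → ℂ)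
    exact hx (hinj (by rw [hc]; simp))
  obtain ⟨r, hr⟩ := IsAlgClosed.exists_pow_nat_eq c⁻¹ (NeZero.pos N)
  have hr0 : r ≠ 0 := fun h => inv_ne_zero hc0 (by rw [← hr, h, zero_pow (NeZero.ne N)])
  let T : (Fin n → ℂ) →ₗ[ℂ] (Fin n → ℂ) := r • T₀
  have hTN : T ^ N = 1 := by
    rw [smul_pow, hr, hc, smul_smul, inv_mul_cancel₀ hc0, one_smul]
    rfl
  let Tu : (Module.End ℂ (Fin n → ℂ))ˣ := Units.ofPowEqOne T N hTN (NeZero.ne N)
  have hTuN : Tu ^ N = 1 := Units.ext (by simp [Tu, hTN])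
  let fA : Cyc N →* (Module.End ℂ (Fin n → ℂ))ˣ :=
    AddMonoidHom.toMultiplicativeLeft <| ZMod.lift N
      ⟨zmultiplesHom (Additive (Module.End ℂ (Fin n → ℂ))ˣ) (Additive.ofMul Tu), by
        apply Additive.toMul.injective
        simp [hTuN]⟩
  let fK : K →* (Module.End ℂ (Fin n → ℂ))ˣ := MonoidHom.toHomUnits ρ
  have hfa : fA a = Tu := by
    show Additive.toMul ((ZMod.lift N ⟨_, _⟩) (1 : ZMod N)) = Tu
    rw [← Int.cast_one, ZMod.lift_coe]
    simp
  have hcond : ∀ g : Cyc N, fK.comp (φ g).toMonoidHom = (MulAut.conj (fA g)).toMonoidHom.comp fK := by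
    intro g
    have hgen : g = a ^ (Multiplicative.toAdd g).val := by
      apply Multiplicative.toAdd.injective
      simp [a]
    have hone : ∀ k, fK (φ a k) = MulAut.conj (fA a) (fK k) := by
      intro k
      rw [hfa, MulAut.conj_apply, eq_mul_inv_iff_mul_eq]
      apply Units.ext
      apply LinearMap.ext
      intro x
      show ρ (φ a k) (T x) = T (ρ k x)
      simp [T, hT₀]
    have hall : ∀ (m : ℕ) k, fK (φ (a ^ m) k) = MulAut.conj (fA (a ^ m)) (fK k) := by
      intro m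
      induction m with
      | zero => intro k; simp
      | succ m ih =>
        intro k
        rw [pow_succ, map_mul, MulAut.mul_apply, ih, hone, map_mul, map_mul, MulAut.mul_apply]
    rw [hgen]
    exact MonoidHom.ext (hall _)
  let R : Representation ℂ (K ⋊[φ] Cyc N) (Fin n → ℂ) :=
    (Units.coeHom _).comp (SemidirectProduct.lift fK fA hcond)
  have hRK : ∀ k : K, R ⟨k, 1⟩ = ρ k := by
    intro k
    show ((SemidirectProduct.lift fK fA hcond (SemidirectProduct.inl k) :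
      (Module.End ℂ (Fin n → ℂ))ˣ) : Module.End ℂ (Fin n → ℂ)) = ρ k
    rw [SemidirectProduct.lift_inl]
    rfl
  haveI : R.IsIrreducible := isIrreducible_of_forall R fun U hU => by
    have hS : ∀ k x, x ∈ U → ρ k x ∈ U := fun k x hx => by rw [← hRK]; exact hU _ _ hx
    exact (hρ.eq_bot_or_eq_top ⟨U, fun k x hx => hS k x hx⟩).imp
      (fun h => congrArg Subrepresentation.toSubmodule h)
      (fun h => congrArg Subrepresentation.toSubmodule h)
  refine ⟨irrOf R, ?_⟩
  funext k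
  show LinearMap.trace ℂ _ (R ⟨k, 1⟩) = χ k
  rw [hRK, ← hρχ]
  rfl

/-- A chosen extension of an invariant irreducible character. -/
noncomputable def extChar (χ : InvIrr φ) : Cfsg.IrrCharacter (K ⋊[φ] Cyc N) :=
  (exists_extension φ hω χ).choose

theorem resBase_extChar (χ : InvIrr φ) :
    resBase φ (extChar φ hω χ : K ⋊[φ] Cyc N → ℂ) = (χ.1 : K → ℂ) :=
  (exists_extension φ hω χ).choose_spec

/-- The expansion of a class function on a generating coset. -/
theorem coset_expansion [Fintype (InvIrr φ)] {F : K ⋊[φ] Cyc N → ℂ}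
    (hF : Cfsg.IsClassFunction _ F) (g : Cyc N)
    (hg : Nat.Coprime (Multiplicative.toAdd g).val N) (k : K) :
    F ⟨k, g⟩ = ∑ χ : InvIrr φ, cosetInner φ g F (extChar φ hω χ : K ⋊[φ] Cyc N → ℂ) *
      (extChar φ hω χ : K ⋊[φ] Cyc N → ℂ) ⟨k, g⟩ := by
  classical
  suffices hirr : ∀ Φ : Cfsg.IrrCharacter (K ⋊[φ] Cyc N), (Φ : K ⋊[φ] Cyc N → ℂ) ⟨k, g⟩ =
      ∑ χ : InvIrr φ, cosetInner φ g (Φ : K ⋊[φ] Cyc N → ℂ) (extChar φ hω χ : K ⋊[φ] Cyc N → ℂ) *
        (extChar φ hω χ : K ⋊[φ] Cyc N → ℂ) ⟨k, g⟩ by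
    have hexp := classFunction_expansion hF
    rw [hexp]
    simp only [cosetInner_sum_left, Finset.sum_mul, Finset.sum_apply, Pi.smul_apply, smul_eq_mul]
    rw [Finset.sum_comm]
    refine Finset.sum_congr rfl fun Φ _ => ?_
    rw [hirr Φ, Finset.mul_sum]
    exact Finset.sum_congr rfl fun _ _ => by ring
  intro Φ
  by_cases hv : ∃ j : Fin N, (j : ℕ) ≠ 0 ∧ twist φ hω Φ j = Φ
  · obtain ⟨j, hj, he⟩ := hv
    have hz := eq_zero_of_twist_eq φ hω Φ j hj he g hg
    rw [hz k, Finset.sum_eq_zero]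
    intro χ _
    simp [cosetInner, hz]
  push Not at hv
  have hirr := isIrr_resBase φ hω Φ hv
  let χ₀ : InvIrr φ := ⟨⟨_, hirr⟩, classFunction_base_inv φ (isClassFunction_of_isIrr Φ.2)⟩
  have key : ∀ χ : InvIrr φ, χ ≠ χ₀ →
      cosetInner φ g (Φ : K ⋊[φ] Cyc N → ℂ) (extChar φ hω χ : K ⋊[φ] Cyc N → ℂ) = 0 := by
    intro χ hχ
    rw [cosetInner_eq_sum_mult φ hω]
    refine Finset.sum_eq_zero fun j _ => ?_
    have hne : twist φ hω Φ j ≠ extChar φ hω χ := by
      intro e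
      apply hχ
      apply Subtype.ext
      apply Subtype.ext
      rw [← resBase_extChar φ hω χ, ← e]
      funext x
      simp [resBase, twist_apply, χ₀]
    rw [classInner_irr, if_neg hne, mul_zero]
  rw [Finset.sum_eq_single χ₀ (fun χ _ hχ => by rw [key χ hχ, zero_mul]) (by simp)]
  have hsum : ∑ j : Fin N, Cfsg.classInner (twist φ hω Φ j : K ⋊[φ] Cyc N → ℂ)
      (extChar φ hω χ₀ : K ⋊[φ] Cyc N → ℂ) = 1 := by
    rw [sum_mult_twist, resBase_extChar]
    exact classInner_isIrr_self hirr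
  obtain ⟨j, -, hj⟩ := Finset.exists_ne_zero_of_sum_ne_zero (hsum.trans_ne one_ne_zero)
  rw [classInner_irr] at hj
  have he : twist φ hω Φ j = extChar φ hω χ₀ := by
    by_contra hne
    rw [if_neg hne] at hj
    exact hj rfl
  rw [← he]
  have hΦ : cosetInner φ g (Φ : K ⋊[φ] Cyc N → ℂ) (Φ : K ⋊[φ] Cyc N → ℂ) = 1 := by
    rw [cosetInner_eq_sum_mult φ hω]
    rw [Finset.sum_eq_single (⟨0, NeZero.pos N⟩ : Fin N)]
    · have : twist φ hω Φ ⟨0, NeZero.pos N⟩ = Φ := by
        apply Subtype.ext; funext x; obtain ⟨k, g⟩ := x; rw [twist_apply]; simp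
      rw [this, classInner_isIrr_self Φ.2]
      simp
    · intro i _ hi
      rw [classInner_irr, if_neg (hv i fun e => hi (Fin.ext e)), mul_zero]
    · simp
  rw [cosetInner_conj_symm, cosetInner_twist, twist_apply, hΦ, mul_one]
  set w := (ω ^ (Multiplicative.toAdd g).val) ^ (j : ℕ) with hw
  have : w * conj w = 1 := by
    have := norm_cycChar φ hω j (⟨k, g⟩ : K ⋊[φ] Cyc N)
    rwa [cycChar_apply] at this
  linear_combination (-(Φ : K ⋊[φ] Cyc N → ℂ) ⟨k, g⟩) * this

end CfsgLib.RelGlauberman
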