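import Cfsg.Agent.RelGlauberman.Twisted
import Cfsg.Agent.RelGlauberman.CyclicExt

/-!
# One step of the relative Glauberman correspondence

For `S : StepData K` (an automorphism `α` of `p`-power order, `Q` normal of index prime to `p`,
`C / Q` the fixed points) the `α`-invariant irreducible characters of `K` and of `C` correspond:
partners have restriction multiplicity `±1` modulo `p`, all others a multiple of `p`.
-/

namespace CfsgLib.RelGlauberman

open CfsgLib.Characters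
open scoped ComplexConjugate Classical

attribute [-simp] SemidirectProduct.mk_eq_inl_mul_inr

theorem conj_of_pow_eq_one {z : ℂ} {n : ℕ} (hn : n ≠ 0) (hz : z ^ n = 1) : conj z = z⁻¹ := by
  rw [Complex.inv_def, Complex.normSq_eq_norm_sq, Complex.norm_eq_one_of_pow_eq_one hz hn]
  simp

namespace StepData

variable {K : Type*} [Group K] (S : StepData K)

instance neZeroN : NeZero (S.p ^ (S.b + 1)) := ⟨pow_ne_zero _ S.prime.ne_zero⟩

theorem alpha_zpow_N :
    (zmultiplesHom (Additive (MulAut K)) (Additive.ofMul S.α)) ((S.p ^ (S.b + 1) : ℕ) : ℤ) = 0 := by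
  apply Additive.toMul.injective
  simp only [zmultiplesHom_apply, toMul_zsmul, toMul_ofMul, toMul_zero, zpow_natCast]
  exact S.order

/-- The action of `ℤ / p ^ (b + 1)` through `α`. -/
noncomputable def act : Cyc (S.p ^ (S.b + 1)) →* MulAut K :=
  AddMonoidHom.toMultiplicativeLeft <|
    ZMod.lift _ ⟨zmultiplesHom (Additive (MulAut K)) (Additive.ofMul S.α), S.alpha_zpow_N⟩

theorem act_gen : S.act (Multiplicative.ofAdd 1) = S.α := by
  show Additive.toMul ((ZMod.lift _ ⟨_, _⟩) (1 : ZMod (S.p ^ (S.b + 1)))) = S.α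
  rw [← Int.cast_one, ZMod.lift_coe]
  simp

theorem eq_gen_pow (g : Cyc (S.p ^ (S.b + 1))) :
    g = Multiplicative.ofAdd 1 ^ (Multiplicative.toAdd g).val := by
  apply Multiplicative.toAdd.injective
  simp

theorem act_eq_pow (g : Cyc (S.p ^ (S.b + 1))) : S.act g = S.α ^ (Multiplicative.toAdd g).val := by
  conv_lhs => rw [S.eq_gen_pow g]
  rw [map_pow, act_gen]

theorem pow_mem_C {c : K} (hc : c ∈ S.C) : ∀ m : ℕ, (S.α ^ m) c ∈ S.C
  | 0 => by simpa using hc
  | m + 1 => by rw [pow_succ', MulAut.mul_apply]; exact S.alpha_mem_C (pow_mem_C hc m)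

theorem pow_mul_inv_mem_Q {c : K} (hc : c ∈ S.C) : ∀ m : ℕ, (S.α ^ m) c * c⁻¹ ∈ S.Q
  | 0 => by simp
  | m + 1 => by
    have h : (S.α ^ (m + 1)) c * c⁻¹ = S.α ((S.α ^ m) c * c⁻¹) * (S.α c * c⁻¹) := by
      rw [pow_succ', MulAut.mul_apply, map_mul, map_inv]; group
    rw [h]
    exact mul_mem (S.invariant _ (pow_mul_inv_mem_Q hc m)) ((S.mem_C c).1 hc)

theorem act_mem_C (g : Cyc (S.p ^ (S.b + 1))) {c : K} (hc : c ∈ S.C) : S.act g c ∈ S.C := by
  rw [act_eq_pow]; exact S.pow_mem_C hc _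

/-- The action restricted to `C`. -/
noncomputable def actC : Cyc (S.p ^ (S.b + 1)) →* MulAut S.C where
  toFun g :=
    { toFun := fun c => ⟨S.act g c, S.act_mem_C g c.2⟩
      invFun := fun c => ⟨S.act g⁻¹ c, S.act_mem_C g⁻¹ c.2⟩
      left_inv := fun c => Subtype.ext (by simp)
      right_inv := fun c => Subtype.ext (by simp)
      map_mul' := fun x y => Subtype.ext (by simp) }
  map_one' := by ext c; simp
  map_mul' g h := by ext c; simp

theorem actC_apply (g : Cyc (S.p ^ (S.b + 1))) (c : S.C) :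
    ((S.actC g c : S.C) : K) = S.act g c := rfl

/-- The same data with `α` replaced by another generator. -/
noncomputable def genData (g : Cyc (S.p ^ (S.b + 1)))
    (hg : Nat.Coprime (Multiplicative.toAdd g).val (S.p ^ (S.b + 1))) : StepData K where
  p := S.p
  b := S.b
  Q := S.Q
  C := S.C
  α := S.act g
  prime := S.prime
  normal := S.normal
  invariant q hq := by
    rw [act_eq_pow]
    have key : ∀ m : ℕ, (S.α ^ m) q ∈ S.Q := by
      intro m
      induction m with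
      | zero => simpa using hq
      | succ m ih => rw [pow_succ', MulAut.mul_apply]; exact S.invariant _ ih
    exact key _
  index_coprime := S.index_coprime
  order := by rw [← map_pow]; convert map_one S.act; apply Multiplicative.toAdd.injective; simp
  mem_C k := by
    refine ⟨fun hk => by rw [act_eq_pow]; exact S.pow_mul_inv_mem_Q hk _, fun hk => ?_⟩
    obtain ⟨m, hm⟩ : ∃ m : ℕ, (Multiplicative.toAdd g).val * m % (S.p ^ (S.b + 1)) = 1 % (S.p ^ (S.b + 1)) := by
      obtain ⟨m, hm⟩ := Nat.exists_mul_mod_eq_one_of_coprime hg (by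
        calc 1 < S.p := S.prime.one_lt
          _ ≤ S.p ^ (S.b + 1) := Nat.le_self_pow (by omega) _)
      exact ⟨m, by rw [hm.2]; exact (Nat.mod_eq_of_lt (lt_of_lt_of_le S.prime.one_lt
        (Nat.le_self_pow (by omega) _))).symm⟩
    have hα : (S.act g) ^ m = S.α := by
      rw [act_eq_pow, ← pow_mul, pow_eq_pow_mod _ S.order, hm, ← pow_eq_pow_mod _ S.order, pow_one]
    rw [S.mem_C, ← hα]
    have key : ∀ j : ℕ, ((S.act g) ^ j) k * k⁻¹ ∈ S.Q := by
      intro j
      induction j with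
      | zero => simp
      | succ j ih =>
        have hi : ∀ q ∈ S.Q, S.act g q ∈ S.Q := fun q hq => by
          rw [act_eq_pow]
          have key : ∀ m : ℕ, (S.α ^ m) q ∈ S.Q := by
            intro m
            induction m with
            | zero => simpa using hq
            | succ m ih => rw [pow_succ', MulAut.mul_apply]; exact S.invariant _ ih
          exact key _
        have h : ((S.act g) ^ (j + 1)) k * k⁻¹ =
            S.act g (((S.act g) ^ j) k * k⁻¹) * (S.act g k * k⁻¹) := by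
          rw [pow_succ', MulAut.mul_apply, map_mul, map_inv]; group
        rw [h]
        exact mul_mem (hi _ ih) hk
    exact key m

/-- Pull back of a function to the semidirect product over `C`. -/
def resC (F : K ⋊[S.act] Cyc (S.p ^ (S.b + 1)) → ℂ) :
    S.C ⋊[S.actC] Cyc (S.p ^ (S.b + 1)) → ℂ := fun x => F ⟨(x.left : K), x.right⟩

/-- The inclusion of semidirect products. -/
noncomputable def inclC : S.C ⋊[S.actC] Cyc (S.p ^ (S.b + 1)) →* K ⋊[S.act] Cyc (S.p ^ (S.b + 1)) where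
  toFun x := ⟨(x.left : K), x.right⟩
  map_one' := rfl
  map_mul' x y := rfl

theorem isCharacter_resC {F : K ⋊[S.act] Cyc (S.p ^ (S.b + 1)) → ℂ} (h : Cfsg.IsCharacter _ F) :
    Cfsg.IsCharacter _ (S.resC F) :=
  isCharacter_comp S.inclC h

theorem isClassFunction_resC {F : K ⋊[S.act] Cyc (S.p ^ (S.b + 1)) → ℂ}
    (h : Cfsg.IsClassFunction _ F) : Cfsg.IsClassFunction _ (S.resC F) := fun x y => by
  show F (S.inclC (y * x * y⁻¹)) = F (S.inclC x)
  rw [map_mul, map_mul, map_inv]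
  exact h _ _

theorem conj_base (u k : K) (g : Cyc (S.p ^ (S.b + 1))) :
    (⟨u, 1⟩ : K ⋊[S.act] Cyc (S.p ^ (S.b + 1))) * ⟨k, g⟩ * ⟨u, 1⟩⁻¹ =
      ⟨u * k * (S.act g u)⁻¹, g⟩ := by
  refine SemidirectProduct.ext ?_ ?_ <;> simp

theorem conj_cyc (k : K) (f g : Cyc (S.p ^ (S.b + 1))) :
    (⟨1, f⟩ : K ⋊[S.act] Cyc (S.p ^ (S.b + 1))) * ⟨k, g⟩ * ⟨1, f⟩⁻¹ = ⟨S.act f k, g⟩ := by
  refine SemidirectProduct.ext ?_ ?_
  · simp
  · show f * g * f⁻¹ = g
    rw [mul_comm f g, mul_inv_cancel_right]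

variable [Finite K]

noncomputable local instance instFintypeK0 : Fintype K := Fintype.ofFinite K
noncomputable local instance instFintypeC0 : Fintype S.C := Fintype.ofFinite _

/-- Coset inner products of class functions can be computed on `C`. -/
theorem cosetInner_resC (g : Cyc (S.p ^ (S.b + 1)))
    (hg : Nat.Coprime (Multiplicative.toAdd g).val (S.p ^ (S.b + 1)))
    {F F' : K ⋊[S.act] Cyc (S.p ^ (S.b + 1)) → ℂ} (hF : Cfsg.IsClassFunction _ F)
    (hF' : Cfsg.IsClassFunction _ F') :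
    cosetInner S.act g F F' = cosetInner S.actC g (S.resC F) (S.resC F') := by
  have h := (S.genData g hg).card_smul_sum (fun k : K => F ⟨k, g⟩ * conj (F' ⟨k, g⟩)) fun u k => by
    have h1 := hF ⟨k, g⟩ ⟨u, 1⟩
    have h2 := hF' ⟨k, g⟩ ⟨u, 1⟩
    rw [conj_base] at h1 h2
    show F ⟨u * k * (S.act g u)⁻¹, g⟩ * conj (F' ⟨u * k * (S.act g u)⁻¹, g⟩) = _
    rw [h1, h2]
  simp only [nsmul_eq_mul, ← Nat.card_eq_fintype_card] at h
  replace h : (Nat.card S.C : ℂ) * (∑ k : K, F ⟨k, g⟩ * conj (F' ⟨k, g⟩)) =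
      (Nat.card K : ℂ) * ∑ c : S.C, F ⟨(c : K), g⟩ * conj (F' ⟨(c : K), g⟩) := by
    refine h.trans ?_
    congr 1
    exact Finset.sum_congr (Finset.ext fun x => iff_of_true (@Finset.mem_univ _ (_) x) (@Finset.mem_univ _ (_) x))
      fun _ _ => rfl
  have hC : (Nat.card S.C : ℂ) ≠ 0 := Nat.cast_ne_zero.2 Nat.card_pos.ne'
  have hK : (Nat.card K : ℂ) ≠ 0 := Nat.cast_ne_zero.2 Nat.card_pos.ne'
  simp only [cosetInner, resC]
  rw [inv_mul_eq_iff_eq_mul₀ hK, ← mul_assoc, mul_comm (Nat.card K : ℂ), mul_assoc,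
    eq_inv_mul_iff_mul_eq₀ hC]
  exact h

end StepData

section Parseval

variable {K : Type*} [Group K] [Finite K] {N : ℕ} [NeZero N] (φ : Cyc N →* MulAut K)
  {ω : ℂ} (hω : IsPrimitiveRoot ω N)

noncomputable local instance instFintypeK1 : Fintype K := Fintype.ofFinite K
noncomputable local instance instFintypeSemi1 : Fintype (K ⋊[φ] Cyc N) := Fintype.ofFinite _

theorem cosetInner_ext_self (χ : InvIrr φ) (g : Cyc N) :
    cosetInner φ g (extChar φ hω χ : K ⋊[φ] Cyc N → ℂ) (extChar φ hω χ : K ⋊[φ] Cyc N → ℂ) = 1 := by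
  let Φ := extChar φ hω χ
  have hsum : ∑ j : Fin N, Cfsg.classInner (twist φ hω Φ j : K ⋊[φ] Cyc N → ℂ)
      (Φ : K ⋊[φ] Cyc N → ℂ) = 1 := by
    rw [sum_mult_twist, resBase_extChar]
    exact classInner_isIrr_self χ.1.2
  have h0 : twist φ hω Φ ⟨0, NeZero.pos N⟩ = Φ := by
    apply Subtype.ext; funext x; obtain ⟨k, g⟩ := x; rw [twist_apply]; simp
  have hne : ∀ j : Fin N, (j : ℕ) ≠ 0 → twist φ hω Φ j ≠ Φ := by
    intro j hj he
    simp only [classInner_irr, Finset.sum_boole] at hsum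
    have h1 : (Finset.univ.filter fun x => twist φ hω Φ x = Φ).card = 1 := by exact_mod_cast hsum
    have := Finset.card_le_one.1 h1.le j (by simp [he]) ⟨0, NeZero.pos N⟩ (by simp only [Finset.mem_filter, Finset.mem_univ, true_and]; exact h0)
    exact hj (congrArg Fin.val this)
  rw [cosetInner_eq_sum_mult φ hω, Finset.sum_eq_single (⟨0, NeZero.pos N⟩ : Fin N)]
  · rw [h0, classInner_isIrr_self Φ.2]; simp
  · intro i _ hi
    rw [classInner_irr, if_neg (hne i fun e => hi (Fin.ext e)), mul_zero]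
  · simp

/-- Parseval on a generating coset. -/
theorem coset_parseval [Fintype (InvIrr φ)] {F : K ⋊[φ] Cyc N → ℂ}
    (hF : Cfsg.IsClassFunction _ F) (g : Cyc N)
    (hg : Nat.Coprime (Multiplicative.toAdd g).val N) :
    cosetInner φ g F F = ∑ χ : InvIrr φ, cosetInner φ g F (extChar φ hω χ : K ⋊[φ] Cyc N → ℂ) *
      cosetInner φ g (extChar φ hω χ : K ⋊[φ] Cyc N → ℂ) F := by
  rw [cosetInner_congr φ (F₂ := ∑ χ : InvIrr φ,
    cosetInner φ g F (extChar φ hω χ : K ⋊[φ] Cyc N → ℂ) • (extChar φ hω χ : K ⋊[φ] Cyc N → ℂ))]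
  · rw [cosetInner_sum_left]
  · intro k
    simp only [Finset.sum_apply, Pi.smul_apply, smul_eq_mul]
    exact coset_expansion φ hω hF g hg k

end Parseval

namespace StepData

variable {K : Type*} [Group K] (S : StepData K) [Finite K]

/-- A class function on the semidirect product over `K` with prescribed values on the coset of `g`
over `C`. -/
theorem exists_classFunction_ext (g : Cyc (S.p ^ (S.b + 1)))
    (hg : Nat.Coprime (Multiplicative.toAdd g).val (S.p ^ (S.b + 1)))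
    {H : S.C ⋊[S.actC] Cyc (S.p ^ (S.b + 1)) → ℂ} (hH : Cfsg.IsClassFunction _ H) :
    ∃ F : K ⋊[S.act] Cyc (S.p ^ (S.b + 1)) → ℂ, Cfsg.IsClassFunction _ F ∧
      ∀ c : S.C, S.resC F ⟨c, g⟩ = H ⟨c, g⟩ := by
  let D := S.genData g hg
  choose v c hc hv using D.exists_twist
  have hu : ∀ (w : K) (a : S.C) (k : K), w * a * (S.act g w)⁻¹ = k →
      H ⟨⟨c k, hc k⟩, g⟩ = H ⟨a, g⟩ := by
    intro w a k hk
    have hkey : w⁻¹ * v k * c k * (S.act g (w⁻¹ * v k))⁻¹ = a := by
      rw [map_mul, map_inv]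
      calc _ = w⁻¹ * (v k * c k * (D.α (v k))⁻¹) * S.act g w := by
            show _ = w⁻¹ * (v k * c k * (S.act g (v k))⁻¹) * S.act g w
            group
        _ = a := by rw [hv k, ← hk]; group
    have hw : w⁻¹ * v k ∈ S.C := D.mem_C_of_twist (hc k) (by
      show w⁻¹ * v k * c k * (S.act g (w⁻¹ * v k))⁻¹ ∈ S.C
      rw [hkey]; exact a.2)
    rw [← hH ⟨⟨c k, hc k⟩, g⟩ ⟨⟨_, hw⟩, 1⟩]
    congr 1
    refine SemidirectProduct.ext (Subtype.ext ?_) ?_
    · simp [actC_apply]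
      have := hkey
      rw [map_mul, map_inv] at this
      rw [← this]
      group
    · simp
  refine ⟨fun x => if x.right = g then H ⟨⟨c x.left, hc x.left⟩, g⟩ else 0, ?_, ?_⟩
  · rintro ⟨k, h⟩ ⟨u, f⟩
    have hr : ((⟨u, f⟩ : K ⋊[S.act] Cyc (S.p ^ (S.b + 1))) * ⟨k, h⟩ * ⟨u, f⟩⁻¹).right = h := by
      show f * h * f⁻¹ = h
      rw [mul_comm f h, mul_inv_cancel_right]
    simp only [hr]
    by_cases hh : h = g
    · subst hh
      rw [if_pos rfl, if_pos rfl]
      have hl : ((⟨u, f⟩ : K ⋊[S.act] Cyc (S.p ^ (S.b + 1))) * ⟨k, h⟩ * ⟨u, f⟩⁻¹).left =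
          (u * S.act f (v k)) * (S.actC f ⟨c k, hc k⟩ : S.C) * (S.act h (u * S.act f (v k)))⁻¹ := by
        have hk : k = v k * c k * (S.act h (v k))⁻¹ := (hv k).symm
        have hcomm : ∀ z, S.act f (S.act h z) = S.act h (S.act f z) := fun z => by
          rw [← MulAut.mul_apply, ← map_mul, mul_comm f h, map_mul, MulAut.mul_apply]
        conv_lhs => rw [hk]
        simp [actC_apply, map_mul, hcomm, mul_assoc]
      rw [hu _ _ _ hl.symm, ← hH ⟨⟨c k, hc k⟩, h⟩ ⟨1, f⟩]
      congr 1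
      refine SemidirectProduct.ext (Subtype.ext ?_) ?_
      · simp [actC_apply]
      · show h = f * h * f⁻¹
        rw [mul_comm f h, mul_inv_cancel_right]
    · rw [if_neg hh, if_neg hh]
  · intro a
    show (if g = g then H ⟨⟨c (a : K), hc (a : K)⟩, g⟩ else 0) = H ⟨a, g⟩
    rw [if_pos rfl]
    exact hu 1 a a (by simp)

noncomputable local instance : Fintype K := Fintype.ofFinite K
noncomputable local instance : Fintype S.C := Fintype.ofFinite _
noncomputable local instance instFintypeSemiK : Fintype (K ⋊[S.act] Cyc (S.p ^ (S.b + 1))) :=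
  Fintype.ofFinite _
noncomputable local instance instFintypeSemiC : Fintype (S.C ⋊[S.actC] Cyc (S.p ^ (S.b + 1))) :=
  Fintype.ofFinite _
noncomputable local instance instFintypeInvK : Fintype (InvIrr S.act) := Fintype.ofFinite _
noncomputable local instance instFintypeInvC : Fintype (InvIrr S.actC) := Fintype.ofFinite _

theorem conj_cosetInner_sum {N : ℕ} (w : ℂ) (hN : N ≠ 0) (hw : w ^ N = 1) (n : Fin N → ℕ) :
    conj (∑ j : Fin N, (w⁻¹) ^ (j : ℕ) * (n j : ℂ)) = ∑ j : Fin N, ((n j : ℤ) : ℂ) * w ^ (j : ℕ) := by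
  rw [map_sum]
  refine Finset.sum_congr rfl fun j _ => ?_
  rw [map_mul, map_pow, map_inv₀, conj_of_pow_eq_one hN hw, inv_inv, Complex.conj_natCast]
  push_cast; ring

/-- One step of the relative Glauberman correspondence. -/
theorem step_correspondence :
    ∃ f : InvIrr S.act ≃ InvIrr S.actC, ∀ (χ : InvIrr S.act) (ξ : InvIrr S.actC),
      ∃ m : ℕ, Cfsg.classInner (fun c : S.C => (χ.1 : K → ℂ) c) (ξ.1 : S.C → ℂ) = m ∧
        (ξ = f χ → (m : ZMod S.p) = 1 ∨ (m : ZMod S.p) = -1) ∧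
        (ξ ≠ f χ → (m : ZMod S.p) = 0) := by
  haveI : Fact S.p.Prime := ⟨S.prime⟩
  let N := S.p ^ (S.b + 1)
  have hN0 : N ≠ 0 := pow_ne_zero _ S.prime.ne_zero
  let ω : ℂ := Complex.exp (2 * Real.pi * Complex.I / N)
  have hω : IsPrimitiveRoot ω (S.p ^ (S.b + 1)) := Complex.isPrimitiveRoot_exp _ hN0
  have hmul : ∀ χ ξ (j : Fin N), ∃ n : ℕ, Cfsg.classInner
      (twist S.actC hω (extChar S.actC hω ξ) j : S.C ⋊[S.actC] Cyc N → ℂ)
      (S.resC (extChar S.act hω χ : K ⋊[S.act] Cyc N → ℂ)) = n := fun χ ξ j =>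
    classInner_characters (isCharacter_of_isIrr (twist S.actC hω (extChar S.actC hω ξ) j).2)
      (S.isCharacter_resC (isCharacter_of_isIrr (extChar S.act hω χ).2))
  choose n hn using hmul
  -- the coset multiplicities
  let a : Cyc N → InvIrr S.act → InvIrr S.actC → ℂ := fun g χ ξ =>
    cosetInner S.actC g (extChar S.actC hω ξ : S.C ⋊[S.actC] Cyc N → ℂ)
      (S.resC (extChar S.act hω χ : K ⋊[S.act] Cyc N → ℂ))
  have ha : ∀ (i : ℕ) χ ξ, a (Multiplicative.ofAdd (i : ZMod N)) χ ξ =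
      ∑ j, ((n χ ξ j : ℤ) : ℂ) * ((ω ^ i)⁻¹) ^ (j : ℕ) := by
    intro i χ ξ
    simp only [a]
    rw [cosetInner_eq_sum_mult S.actC hω]
    refine Finset.sum_congr rfl fun j _ => ?_
    rw [hn, toAdd_ofAdd, ZMod.val_natCast, ← pow_eq_pow_mod i hω.pow_eq_one]
    push_cast; ring
  have hac : ∀ (i : ℕ) χ ξ, conj (a (Multiplicative.ofAdd (i : ZMod N)) χ ξ) =
      ∑ j, ((n χ ξ j : ℤ) : ℂ) * (ω ^ i) ^ (j : ℕ) := by
    intro i χ ξ
    rw [ha, ← conj_cosetInner_sum (ω ^ i) hN0 (by rw [← pow_mul, mul_comm, pow_mul, hω.pow_eq_one, one_pow]) (n χ ξ)]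
    congr 1
    exact Finset.sum_congr rfl fun j _ => by push_cast; ring
  have hcop : ∀ i : ℕ, ¬ S.p ∣ i →
      Nat.Coprime (Multiplicative.toAdd (Multiplicative.ofAdd (i : ZMod N))).val N := by
    intro i hi
    rw [toAdd_ofAdd, ZMod.val_natCast]
    have : Nat.Coprime i N := Nat.Coprime.pow_right _ (S.prime.coprime_iff_not_dvd.2 hi).symm
    rw [Nat.coprime_iff_gcd_eq_one, ← Nat.gcd_rec, Nat.gcd_comm]
    exact this
  have hrow : ∀ χ (i : ℕ), ¬ S.p ∣ i → ∑ ξ, (∑ j, ((n χ ξ j : ℤ) : ℂ) * (ω ^ i) ^ (j : ℕ)) *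
      (∑ j, ((n χ ξ j : ℤ) : ℂ) * ((ω ^ i)⁻¹) ^ (j : ℕ)) = 1 := by
    intro χ i hi
    simp only [← ha, ← hac]
    have h := coset_parseval S.actC hω (S.isClassFunction_resC
      (isClassFunction_of_isIrr (extChar S.act hω χ).2)) _ (hcop i hi)
    rw [← S.cosetInner_resC _ (hcop i hi) (isClassFunction_of_isIrr (extChar S.act hω χ).2)
      (isClassFunction_of_isIrr (extChar S.act hω χ).2), cosetInner_ext_self] at h
    rw [h]
    refine Finset.sum_congr rfl fun ξ _ => ?_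
    simp only [a]
    rw [← cosetInner_conj_symm]
  have hcol : ∀ ξ (i : ℕ), ¬ S.p ∣ i → ∑ χ, (∑ j, ((n χ ξ j : ℤ) : ℂ) * (ω ^ i) ^ (j : ℕ)) *
      (∑ j, ((n χ ξ j : ℤ) : ℂ) * ((ω ^ i)⁻¹) ^ (j : ℕ)) = 1 := by
    intro ξ i hi
    simp only [← ha, ← hac]
    set g := Multiplicative.ofAdd (i : ZMod N)
    obtain ⟨F, hF, hFC⟩ := S.exists_classFunction_ext g (hcop i hi)
      (isClassFunction_of_isIrr (extChar S.actC hω ξ).2)
    have h := coset_parseval S.act hω hF g (hcop i hi)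
    rw [S.cosetInner_resC g (hcop i hi) hF hF, cosetInner_congr S.actC hFC, cosetInner_conj_symm,
      cosetInner_congr S.actC hFC, cosetInner_ext_self, map_one] at h
    rw [h]
    refine Finset.sum_congr rfl fun χ _ => ?_
    rw [S.cosetInner_resC g (hcop i hi) hF (isClassFunction_of_isIrr (extChar S.act hω χ).2),
      cosetInner_congr S.actC hFC, cosetInner_conj_symm S.act g (extChar S.act hω χ).1 F,
      S.cosetInner_resC g (hcop i hi) hF (isClassFunction_of_isIrr (extChar S.act hω χ).2),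
      cosetInner_congr S.actC hFC]
    simp only [a]
    ring
  -- totals
  let m : InvIrr S.act → InvIrr S.actC → ℕ := fun χ ξ => ∑ j, n χ ξ j
  have hm : ∀ χ ξ, Cfsg.classInner (fun c : S.C => (χ.1 : K → ℂ) c) (ξ.1 : S.C → ℂ) = m χ ξ := by
    intro χ ξ
    have h := sum_mult_twist S.actC hω (extChar S.actC hω ξ)
      (S.resC (extChar S.act hω χ : K ⋊[S.act] Cyc N → ℂ))
    rw [resBase_extChar] at h
    simp only [hn] at h
    rw [classInner_conj_symm]
    have hres : (fun c : S.C => (χ.1 : K → ℂ) c) =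
        resBase S.actC (S.resC (extChar S.act hω χ : K ⋊[S.act] Cyc N → ℂ)) := by
      funext c
      exact (congrFun (resBase_extChar S.act hω χ) (c : K)).symm
    rw [hres, ← h, map_sum]
    simp [m]
    convert (rfl : (∑ x, (n χ ξ x : ℂ)) = ∑ x, (n χ ξ x : ℂ)) using 1
  have hmz : ∀ χ ξ, ((∑ j, (n χ ξ j : ℤ) : ℤ) : ZMod S.p) = (m χ ξ : ZMod S.p) := fun χ ξ => by
    simp [m]
  choose f hf hf0 using fun χ => root_sum_rigid hω (fun ξ j => (n χ ξ j : ℤ)) (hrow χ)
  choose e he he0 using fun ξ => root_sum_rigid hω (fun χ j => (n χ ξ j : ℤ)) (hcol ξ)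
  have hnz : ∀ χ ξ, ((m χ ξ : ZMod S.p) = 1 ∨ (m χ ξ : ZMod S.p) = -1) → (m χ ξ : ZMod S.p) ≠ 0 := by
    intro χ ξ h
    rcases h with h | h <;> rw [h] <;> simp
  have hfe : ∀ ξ, f (e ξ) = ξ := fun ξ => by
    by_contra hne
    have h1 := hf0 (e ξ) ξ (Ne.symm hne)
    have h2 := he ξ
    rw [hmz] at h1 h2
    exact hnz _ _ h2 h1
  have hef : ∀ χ, e (f χ) = χ := fun χ => by
    by_contra hne
    have h1 := he0 (f χ) χ (Ne.symm hne)
    have h2 := hf χ
    rw [hmz] at h1 h2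
    exact hnz _ _ h2 h1
  refine ⟨⟨f, e, hef, hfe⟩, fun χ ξ => ⟨m χ ξ, hm χ ξ, ?_, ?_⟩⟩
  · rintro rfl
    have := hf χ
    rwa [hmz] at this
  · intro hne
    have := hf0 χ ξ hne
    rwa [hmz] at this

end StepData

end CfsgLib.RelGlauberman
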