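import Cfsg.Agent.RelGlauberman.Action
import Cfsg.Agent.RelGlauberman.Step

/-!
# The relative Glauberman correspondence

`P` is a `p`-group acting by conjugation on `K`, `Q` is a normal `P`-invariant subgroup of `K` of
index prime to `p`, and `C / Q` is the fixed point subgroup of `P` on `K / Q`. Then restriction,
read modulo `p`, is a bijection up to sign between the `P`-invariant irreducible characters of
`K` and of `C`. For `Q = ⊥` this is the Glauberman correspondence for `p`-groups.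
-/

namespace CfsgLib.RelGlauberman

open CfsgLib.Characters
open scoped ComplexConjugate Classical

variable {G : Type*} [Group G]

/-- The inner product of the restriction to `C` of a function on `K` with a function on `C`. -/
noncomputable def multRes {K C : Subgroup G} (hCK : C ≤ K) (χ : K → ℂ) (ξ : C → ℂ) : ℂ :=
  (Nat.card C : ℂ)⁻¹ * ∑ᶠ c : C, χ (Subgroup.inclusion hCK c) * conj (ξ c)

theorem multRes_eq_classInner {K C : Subgroup G} [Fintype C] (hCK : C ≤ K) (χ : K → ℂ) (ξ : C → ℂ) :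
    multRes hCK χ ξ = Cfsg.classInner (fun c : C => χ (Subgroup.inclusion hCK c)) ξ := by
  rw [multRes, Cfsg.classInner, finsum_eq_sum_of_fintype]

/-- The irreducible characters of `H` invariant under conjugation by `P`. -/
abbrev Inv (P H : Subgroup G) : Type _ := {θ : Cfsg.IrrCharacter H // PInv P H (θ : H → ℂ)}

/-- `C` consists of the elements of `K` fixed by `P` modulo `Q`. -/
def IsFixedMod (P K Q C : Subgroup G) : Prop :=
  ∀ k : G, k ∈ C ↔ k ∈ K ∧ ∀ x ∈ P, x * k * x⁻¹ * k⁻¹ ∈ Q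

/-- The conclusion of the correspondence. -/
def HasCorr (p : ℕ) (P K C : Subgroup G) (hCK : C ≤ K) : Prop :=
  ∃ f : Inv P K ≃ Inv P C, ∀ χ ξ, ∃ m : ℕ,
    multRes hCK (χ.1 : K → ℂ) (ξ.1 : C → ℂ) = m ∧
      (ξ = f χ → (m : ZMod p) = 1 ∨ (m : ZMod p) = -1) ∧ (ξ ≠ f χ → (m : ZMod p) = 0)

theorem exists_fixedMod (P K Q : Subgroup G) (hQn : ∀ k ∈ K, ∀ q ∈ Q, k * q * k⁻¹ ∈ Q) :
    ∃ C : Subgroup G, IsFixedMod P K Q C := by
  refine ⟨{ carrier := {k | k ∈ K ∧ ∀ x ∈ P, x * k * x⁻¹ * k⁻¹ ∈ Q}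
            one_mem' := ⟨one_mem K, fun x _ => by simp⟩
            mul_mem' := ?_
            inv_mem' := ?_ }, fun k => Iff.rfl⟩
  · rintro a b ⟨ha, ha'⟩ ⟨hb, hb'⟩
    refine ⟨mul_mem ha hb, fun x hx => ?_⟩
    rw [show x * (a * b) * x⁻¹ * (a * b)⁻¹ =
      (x * a * x⁻¹ * a⁻¹) * (a * (x * b * x⁻¹ * b⁻¹) * a⁻¹) by group]
    exact mul_mem (ha' x hx) (hQn a ha _ (hb' x hx))
  · rintro a ⟨ha, ha'⟩
    refine ⟨inv_mem ha, fun x hx => ?_⟩
    rw [show x * a⁻¹ * x⁻¹ * a⁻¹⁻¹ = a⁻¹ * (x * a * x⁻¹ * a⁻¹)⁻¹ * a⁻¹⁻¹ by group]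
    exact hQn _ (inv_mem ha) _ (inv_mem (ha' x hx))

theorem IsFixedMod.le {P K Q C : Subgroup G} (h : IsFixedMod P K Q C) : C ≤ K :=
  fun _ hk => ((h _).1 hk).1

theorem IsFixedMod.normalises {P R K Q C : Subgroup G} (h : IsFixedMod P K Q C)
    (hRK : Normalises R K) (hRQ : Normalises R Q) (hRP : Normalises R P) :
    Normalises R C := by
  intro y hy k hk
  obtain ⟨hkK, hk'⟩ := (h k).1 hk
  refine (h _).2 ⟨hRK y hy k hkK, fun x hx => ?_⟩
  rw [show x * (y * k * y⁻¹) * x⁻¹ * (y * k * y⁻¹)⁻¹ =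
    y * ((y⁻¹ * x * y) * k * (y⁻¹ * x * y)⁻¹ * k⁻¹) * y⁻¹ by group]
  exact hRQ y hy _ (hk' _ (by simpa using hRP _ (inv_mem hy) x hx))

variable [Finite G]

noncomputable local instance instFintypeSub (H : Subgroup G) : Fintype H := Fintype.ofFinite H
noncomputable local instance instFintypeIrr (H : Subgroup G) : Fintype (Cfsg.IrrCharacter H) :=
  Fintype.ofFinite _

theorem exists_multRes_nat {K C : Subgroup G} (hCK : C ≤ K) (χ : Cfsg.IrrCharacter K)
    (ξ : Cfsg.IrrCharacter C) : ∃ m : ℕ, multRes hCK (χ : K → ℂ) (ξ : C → ℂ) = m := by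
  rw [multRes_eq_classInner]
  exact classInner_character_irr
    (isCharacter_comp (Subgroup.inclusion hCK) (isCharacter_of_isIrr χ.2)) ξ.2

/-- The natural number behind `multRes`. -/
noncomputable def multNat {K C : Subgroup G} (hCK : C ≤ K) (χ : Cfsg.IrrCharacter K)
    (ξ : Cfsg.IrrCharacter C) : ℕ := (exists_multRes_nat hCK χ ξ).choose

theorem multNat_spec {K C : Subgroup G} (hCK : C ≤ K) (χ : Cfsg.IrrCharacter K)
    (ξ : Cfsg.IrrCharacter C) : multRes hCK (χ : K → ℂ) (ξ : C → ℂ) = multNat hCK χ ξ :=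
  (exists_multRes_nat hCK χ ξ).choose_spec

theorem multNat_unique {K C : Subgroup G} (hCK : C ≤ K) {χ : Cfsg.IrrCharacter K}
    {ξ : Cfsg.IrrCharacter C} {m : ℕ} (h : multRes hCK (χ : K → ℂ) (ξ : C → ℂ) = m) :
    multNat hCK χ ξ = m := by
  exact_mod_cast (multNat_spec hCK χ ξ).symm.trans h

theorem multNat_smul {P K C : Subgroup G} (hnK : Normalises P K) (hnC : Normalises P C)
    (hCK : C ≤ K) (y : P) (χ : Cfsg.IrrCharacter K) (ξ : Cfsg.IrrCharacter C) :
    multNat hCK ((irrAction hnK).smul y χ) ((irrAction hnC).smul y ξ) = multNat hCK χ ξ := by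
  apply multNat_unique
  rw [multRes_eq_classInner, classInner_res_smul, ← multRes_eq_classInner hCK]
  exact multNat_spec hCK χ ξ

theorem res_expansion {K C : Subgroup G} (hCK : C ≤ K) (χ : Cfsg.IrrCharacter K) :
    (fun c : C => (χ : K → ℂ) (Subgroup.inclusion hCK c)) =
      ∑ ξ : Cfsg.IrrCharacter C, (multNat hCK χ ξ : ℂ) • (ξ : C → ℂ) := by
  conv_lhs => rw [character_expansion (θ := fun c : C => (χ : K → ℂ) (Subgroup.inclusion hCK c))
    (isCharacter_comp (Subgroup.inclusion hCK) (isCharacter_of_isIrr χ.2))]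
  refine Finset.sum_congr rfl fun ξ _ => ?_
  rw [← multRes_eq_classInner, multNat_spec]

/-- Restriction in two stages. -/
theorem multNat_trans {K D C : Subgroup G} (hCD : C ≤ D) (hDK : D ≤ K)
    (χ : Cfsg.IrrCharacter K) (ξ : Cfsg.IrrCharacter C) :
    multNat (hCD.trans hDK) χ ξ = ∑ η, multNat hDK χ η * multNat hCD η ξ := by
  apply multNat_unique
  have h := res_expansion hDK χ
  rw [multRes_eq_classInner,
    show (fun c : C => (χ : K → ℂ) (Subgroup.inclusion (hCD.trans hDK) c)) =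
      ∑ η : Cfsg.IrrCharacter D, (multNat hDK χ η : ℂ) •
        (fun c : C => (η : D → ℂ) (Subgroup.inclusion hCD c)) from funext fun c => by
      refine (congrFun h (Subgroup.inclusion hCD c)).trans ?_
      simp [Finset.sum_apply],
    classInner_sum_left]
  push_cast
  refine Finset.sum_congr rfl fun η _ => ?_
  rw [classInner_smul_left, ← multRes_eq_classInner, multNat_spec]

/-- A correspondence in terms of `multNat`. -/
theorem hasCorr_iff {p : ℕ} {P K C : Subgroup G} (hCK : C ≤ K) :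
    HasCorr p P K C hCK ↔ ∃ f : Inv P K ≃ Inv P C, ∀ χ ξ,
      (ξ = f χ → (multNat hCK χ.1 ξ.1 : ZMod p) = 1 ∨ (multNat hCK χ.1 ξ.1 : ZMod p) = -1) ∧
        (ξ ≠ f χ → (multNat hCK χ.1 ξ.1 : ZMod p) = 0) := by
  constructor
  · rintro ⟨f, hf⟩
    refine ⟨f, fun χ ξ => ?_⟩
    obtain ⟨m, hm, h⟩ := hf χ ξ
    rwa [multNat_unique hCK hm]
  · rintro ⟨f, hf⟩
    exact ⟨f, fun χ ξ => ⟨_, multNat_spec hCK χ.1 ξ.1, hf χ ξ⟩⟩

theorem corr_bot (p : ℕ) [Fact p.Prime] (K : Subgroup G) : HasCorr p ⊥ K K le_rfl := by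
  rw [hasCorr_iff]
  refine ⟨Equiv.refl _, fun χ ξ => ?_⟩
  have hm : multNat le_rfl χ.1 ξ.1 = if χ.1 = ξ.1 then 1 else 0 := by
    apply multNat_unique
    rw [multRes_eq_classInner]
    show Cfsg.classInner (χ.1 : K → ℂ) (ξ.1 : K → ℂ) = _
    rw [classInner_irr]
    split_ifs <;> simp
  rw [hm]
  refine ⟨fun h => ?_, fun h => ?_⟩
  · subst h; simp
  · rw [if_neg fun e => h (Subtype.ext e.symm)]; simp

/-- One step: the correspondence for a single element `x` of `p`-power order. -/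
theorem corr_zpowers {p : ℕ} [Fact p.Prime] {K Q C : Subgroup G} (x : G) (n : ℕ)
    (hx : x ^ p ^ n = 1) (hxK : ∀ k ∈ K, x * k * x⁻¹ ∈ K) (hxQ : ∀ q ∈ Q, x * q * x⁻¹ ∈ Q)
    (hQn : ∀ k ∈ K, ∀ q ∈ Q, k * q * k⁻¹ ∈ Q) (hidx : ¬ p ∣ Q.relIndex K) (hCK : C ≤ K)
    (hC : ∀ k ∈ K, (k ∈ C ↔ x * k * x⁻¹ * k⁻¹ ∈ Q)) :
    HasCorr p (Subgroup.zpowers x) K C hCK := by
  have hxK' : ∀ k ∈ K, x⁻¹ * k * x ∈ K := by
    intro k hk
    have key : ∀ m : ℕ, ∀ k ∈ K, x ^ m * k * (x ^ m)⁻¹ ∈ K := by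
      intro m
      induction m with
      | zero => intro k hk; simpa using hk
      | succ m ih =>
        intro k hk
        rw [show x ^ (m + 1) * k * (x ^ (m + 1))⁻¹ = x * (x ^ m * k * (x ^ m)⁻¹) * x⁻¹ by
          rw [pow_succ']; group]
        exact hxK _ (ih k hk)
    have hinv : x⁻¹ = x ^ (p ^ n - 1) := inv_eq_of_mul_eq_one_right (by
      rw [← pow_succ', Nat.sub_add_cancel (pow_pos (Fact.out : p.Prime).pos n), hx])
    have := key (p ^ n - 1) k hk
    rwa [← hinv, inv_inv] at this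
  let α : MulAut K :=
    { toFun := fun k => ⟨x * k * x⁻¹, hxK k k.2⟩
      invFun := fun k => ⟨x⁻¹ * k * x, hxK' k k.2⟩
      left_inv := fun k => Subtype.ext (by group)
      right_inv := fun k => Subtype.ext (by group)
      map_mul' := fun a b => Subtype.ext (by simp [mul_assoc]) }
  have hα : ∀ (m : ℕ) (k : K), (((α ^ m) k : K) : G) = x ^ m * k * (x ^ m)⁻¹ := by
    intro m
    induction m with
    | zero => intro k; simp
    | succ m ih =>
      intro k
      rw [pow_succ', MulAut.mul_apply]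
      show x * ((α ^ m) k : K) * x⁻¹ = _
      rw [ih, pow_succ']; group
  let S : StepData K :=
    { p := p
      b := n
      Q := Q.subgroupOf K
      C := C.subgroupOf K
      α := α
      prime := Fact.out
      normal := ⟨fun q hq k => hQn k k.2 q hq⟩
      invariant := fun q hq => hxQ q hq
      index_coprime := hidx
      order := by
        ext k
        rw [hα, pow_succ, pow_mul, hx]
        simp
      mem_C := fun k => hC k k.2 }
  obtain ⟨f, hf⟩ := S.step_correspondence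
  have actEq : ∀ (g : Cyc (S.p ^ (S.b + 1))) (k : K), ((S.act g k : K) : G) =
      x ^ (Multiplicative.toAdd g).val * k * (x ^ (Multiplicative.toAdd g).val)⁻¹ := by
    intro g k
    rw [S.act_eq_pow]; exact hα _ k
  have hval : (Multiplicative.toAdd (Multiplicative.ofAdd (1 : ZMod (S.p ^ (S.b + 1))))).val = 1 := by
    rw [toAdd_ofAdd, ZMod.val_one'']
    exact (lt_of_lt_of_le (Fact.out : p.Prime).one_lt (Nat.le_self_pow (by omega) _)).ne'
  -- invariance under `x` is invariance under the whole action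
  have invIff : ∀ (H : Subgroup G) (hH : ∀ k ∈ H, x * k * x⁻¹ ∈ H) (θ : H → ℂ),
      PInv (Subgroup.zpowers x) H θ ↔
        ∀ k k' : H, (k' : G) = x * k * x⁻¹ → θ k' = θ k := by
    intro H hH θ
    refine ⟨fun h => h x (Subgroup.mem_zpowers x), fun h y hy k k' hk => ?_⟩
    obtain ⟨m, rfl⟩ : ∃ m : ℕ, x ^ m = y := by
      obtain ⟨i, hi⟩ := (mem_powers_iff_mem_zpowers (x := x)).2 hy
      exact ⟨i, hi⟩
    clear hy
    induction m generalizing k' with
    | zero => rw [show k' = k from Subtype.ext (by simpa using hk)]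
    | succ m ih =>
      have hmem : x ^ m * (k : G) * (x ^ m)⁻¹ ∈ H := by
        clear ih hk
        induction m with
        | zero => simp
        | succ m ih2 =>
          rw [show x ^ (m + 1) * (k : G) * (x ^ (m + 1))⁻¹ = x * (x ^ m * k * (x ^ m)⁻¹) * x⁻¹ by
            rw [pow_succ']; group]
          exact hH _ ih2
      rw [← ih ⟨_, hmem⟩ rfl]
      exact h _ _ (by rw [hk, pow_succ']; group)
  have hCinv : ∀ k ∈ C, x * k * x⁻¹ ∈ C := fun k hk =>
    (S.alpha_mem_C (c := ⟨k, hCK hk⟩) hk : (α ⟨k, hCK hk⟩) ∈ C.subgroupOf K)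
  let e : C.subgroupOf K ≃* C := Subgroup.subgroupOfEquivOfLe hCK
  let eK : InvIrr S.act ≃ Inv (Subgroup.zpowers x) K :=
    Equiv.subtypeEquivRight fun θ => by
      rw [invIff K hxK]
      constructor
      · intro h k k' hk
        rw [← h (Multiplicative.ofAdd 1) k]
        refine congrArg _ (Subtype.ext ?_)
        rw [actEq, hval, pow_one, hk]
      · intro h g k
        exact ((invIff K hxK _).2 h) _ (pow_mem (Subgroup.mem_zpowers x) _) k _ (actEq g k)
  let eC : InvIrr S.actC ≃ Inv (Subgroup.zpowers x) C :=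
    (irrCongr e.symm).subtypeEquiv fun θ => by
      rw [invIff C hCinv]
      constructor
      · intro h k k' hk
        rw [irrCongr_apply, irrCongr_apply, ← h (Multiplicative.ofAdd 1) (e.symm k)]
        refine congrArg _ (Subtype.ext (Subtype.ext ?_))
        rw [S.actC_apply, actEq, hval, pow_one]
        exact hk
      · intro h g k
        have := ((invIff C hCinv _).2 h) _ (pow_mem (Subgroup.mem_zpowers x)
          (Multiplicative.toAdd g).val) (e k) (e (S.actC g k)) (actEq g (k : K))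
        simpa [irrCongr_apply] using this
  refine ⟨(eK.symm.trans f).trans eC, fun χ ξ => ?_⟩
  obtain ⟨m, hm, h1, h2⟩ := hf (eK.symm χ) (eC.symm ξ)
  refine ⟨m, ?_, fun h => h1 (by rw [h]; simp), fun h => h2 fun hh => h (by
    rw [← eC.apply_symm_apply ξ, hh]; rfl)⟩
  rw [← hm, multRes_eq_classInner, ← classInner_comp_mulEquiv e]
  convert rfl using 2 <;> (funext b; rfl)

/-- The relative Glauberman correspondence. -/
theorem relative_glauberman {p : ℕ} [Fact p.Prime] :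
    ∀ (P K Q C : Subgroup G), IsPGroup p P → Normalises P K → Normalises P Q → Q ≤ K →
      (∀ k ∈ K, ∀ q ∈ Q, k * q * k⁻¹ ∈ Q) → ¬ p ∣ Q.relIndex K →
      ∀ hC : IsFixedMod P K Q C, HasCorr p P K C hC.le := by
  intro P
  induction hn : Nat.card P using Nat.strong_induction_on generalizing P with
  | _ n ih =>
  intro K Q C hP hPK hPQ hQK hQn hidx hC
  subst hn
  by_cases hbot : P = ⊥
  · subst hbot
    have hCK : C = K := le_antisymm hC.le fun k hk => (hC k).2 ⟨hk, fun x hx => by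
      rw [Subgroup.mem_bot.1 hx]; simp⟩
    subst hCK
    exact corr_bot p C
  -- a maximal subgroup of `P` and an element outside it
  haveI : Nontrivial P := (Subgroup.nontrivial_iff_ne_bot P).2 hbot
  obtain ⟨M, hM⟩ : ∃ M : Subgroup P, IsCoatom M := by
    obtain h | ⟨M, hM, -⟩ := eq_top_or_exists_le_coatom (⊥ : Subgroup P)
    · exact absurd h bot_ne_top
    · exact ⟨M, hM⟩
  haveI : Group.IsNilpotent P := hP.isNilpotent
  have hMn : M.Normal :=
    Subgroup.NormalizerCondition.normal_of_coatom M normalizerCondition_of_isNilpotent hM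
  obtain ⟨x, hx⟩ : ∃ x : P, x ∉ M := by
    by_contra h
    push Not at h
    exact hM.1 (eq_top_iff.2 fun y _ => h y)
  let R : Subgroup G := M.map P.subtype
  have hRP : R ≤ P := Subgroup.map_subtype_le M
  have hcard : Nat.card R < Nat.card P := by
    rw [Subgroup.card_map_of_injective Subtype.val_injective]
    exact lt_of_le_of_ne (Subgroup.card_le_card_group M)
      fun e => hM.1 (Subgroup.eq_top_of_card_eq M e)
  have hPR : Normalises P R := by
    rintro y hy _ ⟨z, hz, rfl⟩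
    exact ⟨⟨y, hy⟩ * z * ⟨y, hy⟩⁻¹, hMn.conj_mem z hz _, by simp⟩
  have hgen : ∀ S : Subgroup G, R ≤ S → (x : G) ∈ S → P ≤ S := by
    intro S hR hxS y hy
    have hle : M < S.subgroupOf P := lt_of_le_of_ne
      (fun z hz => hR (Subgroup.mem_map_of_mem _ hz)) fun e => hx (e ▸ hxS)
    have := hM.2 _ hle
    exact (this ▸ Subgroup.mem_top (⟨y, hy⟩ : P) : (⟨y, hy⟩ : P) ∈ S.subgroupOf P)
  obtain ⟨D, hD⟩ := exists_fixedMod R K Q hQn
  have hPD : Normalises P D := hD.normalises hPK hPQ hPR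
  have hPC : Normalises P C := hC.normalises hPK hPQ fun a ha b hb =>
    mul_mem (mul_mem ha hb) (inv_mem ha)
  obtain ⟨f₁, hf₁⟩ := (hasCorr_iff hD.le).1 (ih _ hcard R rfl K Q D
    (hP.to_le hRP) (fun y hy => hPK y (hRP hy)) (fun y hy => hPQ y (hRP hy)) hQK hQn hidx hD)
  have hCD : C ≤ D := fun k hk => (hD k).2 ⟨hC.le hk, fun y hy => ((hC k).1 hk).2 y (hRP hy)⟩
  have hCchar : ∀ k ∈ D, (k ∈ C ↔ (x : G) * k * (x : G)⁻¹ * k⁻¹ ∈ Q) := by
    intro k hk
    refine ⟨fun h => ((hC k).1 h).2 _ x.2, fun h => (hC k).2 ⟨hD.le hk, ?_⟩⟩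
    -- the elements of `P` fixing `k` modulo `Q` form a subgroup
    let S : Subgroup P :=
      { carrier := {y | (y : G) * k * (y : G)⁻¹ * k⁻¹ ∈ Q}
        one_mem' := by simp
        mul_mem' := fun {a b} ha hb => by
          show ((a * b : P) : G) * k * ((a * b : P) : G)⁻¹ * k⁻¹ ∈ Q
          rw [Subgroup.coe_mul, show (a : G) * b * k * ((a : G) * b)⁻¹ * k⁻¹ =
            (a : G) * ((b : G) * k * (b : G)⁻¹ * k⁻¹) * (a : G)⁻¹ *
              ((a : G) * k * (a : G)⁻¹ * k⁻¹) by group]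
          exact mul_mem (hPQ _ a.2 _ hb) ha
        inv_mem' := fun {a} ha => by
          show ((a⁻¹ : P) : G) * k * ((a⁻¹ : P) : G)⁻¹ * k⁻¹ ∈ Q
          rw [Subgroup.coe_inv, show (a : G)⁻¹ * k * ((a : G)⁻¹)⁻¹ * k⁻¹ =
            (a : G)⁻¹ * ((a : G) * k * (a : G)⁻¹ * k⁻¹)⁻¹ * (a : G) by group]
          simpa using hPQ _ (inv_mem a.2) _ (inv_mem ha) }
    intro y hy
    have hle : M < S := lt_of_le_of_ne
      (fun z hz => ((hD k).1 hk).2 _ (Subgroup.mem_map_of_mem _ hz)) fun e => hx (e ▸ h)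
    exact (hM.2 _ hle ▸ Subgroup.mem_top (⟨y, hy⟩ : P) : (⟨y, hy⟩ : P) ∈ S)
  obtain ⟨e, he⟩ : ∃ e, (x : G) ^ p ^ e = 1 := by
    obtain ⟨e, he⟩ := hP x
    exact ⟨e, congrArg Subtype.val he⟩
  have hQD : Q ≤ D := fun q hq => (hD q).2 ⟨hQK hq, fun y hy =>
    mul_mem (hPQ y (hRP hy) q hq) (inv_mem hq)⟩
  obtain ⟨f₂, hf₂⟩ := (hasCorr_iff hCD).1 (corr_zpowers (x : G) e he (hPD _ x.2) (hPQ _ x.2)
    (fun k hk => hQn k (hD.le hk))
    (fun hdvd => hidx (hdvd.trans (Dvd.intro _ (Subgroup.relIndex_mul_relIndex Q D K hQD hD.le))))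
    hCD hCchar)
  -- invariance under `R` and `x` gives invariance under `P`
  have invGen : ∀ (H : Subgroup G) (hn : Normalises P H) (θ : Cfsg.IrrCharacter H),
      PInv R H (θ : H → ℂ) → (irrAction hn).smul x θ = θ → PInv P H (θ : H → ℂ) := by
    intro H hn θ hR hxθ
    rw [pInv_iff_fixed hn]
    letI := irrAction hn
    intro y
    have hle : M < MulAction.stabilizer P θ := lt_of_le_of_ne
      (fun z hz => (irrAction_eq_self_iff hn z θ).2 (hR _ (Subgroup.mem_map_of_mem _ hz)))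
      fun e => hx (e ▸ hxθ)
    exact (hM.2 _ hle ▸ Subgroup.mem_top y : y ∈ MulAction.stabilizer P θ)
  have invR : ∀ (H : Subgroup G) (θ : Cfsg.IrrCharacter H),
      PInv P H (θ : H → ℂ) → PInv R H (θ : H → ℂ) := fun H θ h y hy => h y (hRP hy)
  have invX : ∀ (H : Subgroup G) (θ : Cfsg.IrrCharacter H),
      PInv P H (θ : H → ℂ) → PInv (Subgroup.zpowers (x : G)) H (θ : H → ℂ) :=
    fun H θ h y hy => h y ((Subgroup.zpowers_le.2 x.2) hy)
  have xfix : ∀ (H : Subgroup G) (hn : Normalises P H) (θ : Cfsg.IrrCharacter H),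
      PInv (Subgroup.zpowers (x : G)) H (θ : H → ℂ) → (irrAction hn).smul x θ = θ :=
    fun H hn θ h => (irrAction_eq_self_iff hn x θ).2 (h _ (Subgroup.mem_zpowers _))
  have Rsmul : ∀ (H : Subgroup G) (hn : Normalises P H) (θ : Cfsg.IrrCharacter H) (y : P),
      PInv R H (θ : H → ℂ) → PInv R H (((irrAction hn).smul y θ : Cfsg.IrrCharacter H) : H → ℂ) := by
    intro H hn θ y hR z hz k k' hk
    simp only [irrAction_apply]
    refine hR ((y : G)⁻¹ * z * y) (by simpa using hPR _ (inv_mem y.2) z hz) _ _ ?_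
    simp [conjAutInv, hk, mul_assoc]
  have xfixZ : ∀ (H : Subgroup G) (hn : Normalises P H) (θ : Cfsg.IrrCharacter H),
      (irrAction hn).smul x θ = θ → PInv (Subgroup.zpowers (x : G)) H (θ : H → ℂ) := by
    intro H hn θ h y hy k k' hk
    letI := irrAction hn
    obtain ⟨i, rfl⟩ := Subgroup.mem_zpowers_iff.1 hy
    have : x ^ i ∈ MulAction.stabilizer P θ :=
      zpow_mem (MulAction.mem_stabilizer_iff.2 h : x ∈ MulAction.stabilizer P θ) i
    exact (irrAction_eq_self_iff hn (x ^ i) θ).1 this k k' (by simpa using hk)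
  have ne0 : ∀ {a : ZMod p}, a = 1 ∨ a = -1 → a ≠ 0 := by
    rintro a (rfl | rfl) <;> simp
  -- the first correspondence commutes with `P`
  have hA : ∀ χ : Inv R K, PInv P K (χ.1 : K → ℂ) ↔ PInv P D ((f₁ χ).1 : D → ℂ) := by
    intro χ
    constructor
    · intro h
      refine invGen D hPD _ (f₁ χ).2 ?_
      have h1 : (⟨_, Rsmul D hPD _ x (f₁ χ).2⟩ : Inv R D) = f₁ χ := by
        by_contra hne
        have h0 := (hf₁ χ ⟨_, Rsmul D hPD _ x (f₁ χ).2⟩).2 hne
        have h2 := multNat_smul hPK hPD hD.le x χ.1 (f₁ χ).1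
        rw [(pInv_iff_fixed hPK _).1 h x] at h2
        simp only at h0
        rw [h2] at h0
        exact ne0 ((hf₁ χ (f₁ χ)).1 rfl) h0
      exact congrArg Subtype.val h1
    · intro h
      refine invGen K hPK _ χ.2 ?_
      let χ' : Inv R K := ⟨_, Rsmul K hPK _ x χ.2⟩
      have h1 : f₁ χ' = f₁ χ := by
        by_contra hne
        have h0 := (hf₁ χ' (f₁ χ)).2 (Ne.symm hne)
        have h2 := multNat_smul hPK hPD hD.le x χ.1 (f₁ χ).1
        rw [(pInv_iff_fixed hPD _).1 h x] at h2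
        rw [h2] at h0
        exact ne0 ((hf₁ χ (f₁ χ)).1 rfl) h0
      exact congrArg Subtype.val (f₁.injective h1)
  let g₁ : Inv P K ≃ Inv P D :=
    { toFun := fun χ => ⟨(f₁ ⟨χ.1, invR _ _ χ.2⟩).1, (hA _).1 χ.2⟩
      invFun := fun η => ⟨(f₁.symm ⟨η.1, invR _ _ η.2⟩).1, (hA _).2 (by simpa using η.2)⟩
      left_inv := fun χ => by simp
      right_inv := fun η => by simp }
  -- so does the second
  have hB : ∀ η : Inv (Subgroup.zpowers (x : G)) D,
      PInv P D (η.1 : D → ℂ) ↔ PInv P C ((f₂ η).1 : C → ℂ) := by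
    intro η
    constructor
    · intro h
      rw [pInv_iff_fixed hPC]
      letI := irrAction hPC
      intro y
      refine fixed_of_unique_fixed (p := p) hP x _ (xfix C hPC _ (f₂ η).2) (fun y hy => ?_) y
      by_contra hne
      have h0 := (hf₂ η ⟨_, xfixZ C hPC _ hy⟩).2 fun e => hne (congrArg Subtype.val e)
      have h2 := multNat_smul hPD hPC hCD y η.1 (f₂ η).1
      rw [(pInv_iff_fixed hPD _).1 h y] at h2
      change (multNat hCD η.1 ((irrAction hPC).smul y (f₂ η).1) : ZMod p) = 0 at h0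
      rw [h2] at h0
      exact ne0 ((hf₂ η (f₂ η)).1 rfl) h0
    · intro h
      rw [pInv_iff_fixed hPD]
      letI := irrAction hPD
      intro y
      refine fixed_of_unique_fixed (p := p) hP x _ (xfix D hPD _ η.2) (fun y hy => ?_) y
      by_contra hne
      have h0 := (hf₂ ⟨_, xfixZ D hPD _ hy⟩ (f₂ η)).2 fun e =>
        hne (congrArg Subtype.val (f₂.injective e)).symm
      have h2 := multNat_smul hPD hPC hCD y η.1 (f₂ η).1
      rw [(pInv_iff_fixed hPC _).1 h y] at h2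
      change (multNat hCD ((irrAction hPD).smul y η.1) (f₂ η).1 : ZMod p) = 0 at h0
      rw [h2] at h0
      exact ne0 ((hf₂ η (f₂ η)).1 rfl) h0
  let g₂ : Inv P D ≃ Inv P C :=
    { toFun := fun η => ⟨(f₂ ⟨η.1, invX _ _ η.2⟩).1, (hB _).1 η.2⟩
      invFun := fun ξ => ⟨(f₂.symm ⟨ξ.1, invX _ _ ξ.2⟩).1, (hB _).2 (by simpa using ξ.2)⟩
      left_inv := fun η => by simp
      right_inv := fun ξ => by simp }
  rw [hasCorr_iff]
  refine ⟨g₁.trans g₂, fun χ ξ => ?_⟩
  have hsum : (multNat hC.le χ.1 ξ.1 : ZMod p) =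
      (multNat hD.le χ.1 (g₁ χ).1 : ZMod p) * (multNat hCD (g₁ χ).1 ξ.1 : ZMod p) := by
    rw [multNat_trans hCD hD.le]
    push_cast
    rw [sum_irr_mod_p hP hPD _ fun y η => by
      have h1 := multNat_smul hPK hPD hD.le y χ.1 η
      rw [(pInv_iff_fixed hPK _).1 χ.2 y] at h1
      have h2 := multNat_smul hPD hPC hCD y η ξ.1
      rw [(pInv_iff_fixed hPC _).1 ξ.2 y] at h2
      rw [h1, h2]]
    rw [Finset.sum_eq_single (g₁ χ).1]
    · intro η hη hne
      have := (hf₁ ⟨χ.1, invR _ _ χ.2⟩ ⟨η, invR _ _ (Finset.mem_filter.1 hη).2⟩).2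
        fun e => hne (congrArg Subtype.val e)
      rw [this, zero_mul]
    · intro h
      exact absurd (by simpa using (g₁ χ).2) h
  rw [hsum]
  have h1 := (hf₁ ⟨χ.1, invR _ _ χ.2⟩ (f₁ ⟨χ.1, invR _ _ χ.2⟩)).1 rfl
  change (multNat hD.le χ.1 (g₁ χ).1 : ZMod p) = 1 ∨ (multNat hD.le χ.1 (g₁ χ).1 : ZMod p) = -1 at h1
  have h2 := hf₂ ⟨(g₁ χ).1, invX _ _ (g₁ χ).2⟩ ⟨ξ.1, invX _ _ ξ.2⟩
  refine ⟨fun h => ?_, fun h => ?_⟩
  · have h3 := h2.1 (Subtype.ext (by rw [h]; rfl))
    rcases h1 with h1 | h1 <;> rcases h3 with h3 | h3 <;> simp [h1, h3]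
  · have h3 := h2.2 fun e => h (Subtype.ext (congrArg Subtype.val e :))
    rw [h3, mul_zero]

/-- The degree congruence. -/
theorem degree_congr {p : ℕ} [Fact p.Prime] {P K C : Subgroup G} (hP : IsPGroup p P)
    (hPK : Normalises P K) (hPC : Normalises P C) (hCK : C ≤ K) (χ : Inv P K) (ξ : Inv P C)
    (h : ∀ η : Inv P C, η ≠ ξ → (multNat hCK χ.1 η.1 : ZMod p) = 0) (dχ : ℕ) (d : Cfsg.IrrCharacter C → ℕ)
    (hdχ : (χ.1 : K → ℂ) 1 = dχ) (hd : ∀ η : Cfsg.IrrCharacter C, (η : C → ℂ) 1 = d η) :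
    (dχ : ZMod p) = (multNat hCK χ.1 ξ.1 : ZMod p) * (d ξ.1 : ZMod p) := by
  have h1 := congrFun (res_expansion hCK χ.1) 1
  simp only [map_one, Finset.sum_apply, Pi.smul_apply, smul_eq_mul, hdχ, hd] at h1
  have h2 : dχ = ∑ η, multNat hCK χ.1 η * d η := by exact_mod_cast h1
  rw [h2]
  push_cast
  rw [sum_irr_mod_p hP hPC _ fun y η => by
    have h1 := multNat_smul hPK hPC hCK y χ.1 η
    rw [(pInv_iff_fixed hPK _).1 χ.2 y] at h1
    have h3 : d ((irrAction hPC).smul y η) = d η := by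
      have h4 : ((d ((irrAction hPC).smul y η) : ℕ) : ℂ) = d η := by
        rw [← hd, ← hd, irrAction_apply, map_one]
      exact_mod_cast h4
    rw [h1, h3]]
  rw [Finset.sum_eq_single ξ.1]
  · intro η hη hne
    rw [h ⟨η, (Finset.mem_filter.1 hη).2⟩ fun e => hne (congrArg Subtype.val e), zero_mul]
  · intro h'
    exact absurd (by simpa using ξ.2) h'

end CfsgLib.RelGlauberman
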