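import Cfsg.Agent.Characters.Classes
import Cfsg.Agent.RelGlauberman.PermModule

/-!
# A subgroup acting by conjugation on the irreducible characters of a normalised subgroup
-/

namespace CfsgLib.RelGlauberman

open CfsgLib.Characters
open scoped ComplexConjugate Classical

section transport

variable {A B : Type*} [Group A] [Group B] [Finite A] [Finite B]

theorem classInner_comp_mulEquiv [Fintype A] [Fintype B] (e : B ≃* A) (φ ψ : A → ℂ) :
    Cfsg.classInner (fun b => φ (e b)) (fun b => ψ (e b)) = Cfsg.classInner φ ψ := by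
  rw [Cfsg.classInner, Cfsg.classInner, Nat.card_congr e.toEquiv]
  congr 1
  exact Fintype.sum_equiv e.toEquiv _ _ fun _ => rfl

theorem isIrr_comp_mulEquiv (e : B ≃* A) {θ : A → ℂ} (h : Cfsg.IsIrrCharacter A θ) :
    Cfsg.IsIrrCharacter B fun b => θ (e b) := by
  letI := Fintype.ofFinite A
  letI := Fintype.ofFinite B
  exact isIrr_of_classInner_self (isCharacter_comp e.toMonoidHom (isCharacter_of_isIrr h))
    ((classInner_comp_mulEquiv e θ θ).trans (classInner_isIrr_self h))

/-- Transport of irreducible characters along an isomorphism. -/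
noncomputable def irrCongr (e : B ≃* A) : Cfsg.IrrCharacter A ≃ Cfsg.IrrCharacter B where
  toFun θ := ⟨_, isIrr_comp_mulEquiv e θ.2⟩
  invFun θ := ⟨_, isIrr_comp_mulEquiv e.symm θ.2⟩
  left_inv θ := Subtype.ext (funext fun a => by simp)
  right_inv θ := Subtype.ext (funext fun b => by simp)

theorem irrCongr_apply (e : B ≃* A) (θ : Cfsg.IrrCharacter A) (b : B) :
    (irrCongr e θ : B → ℂ) b = (θ : A → ℂ) (e b) := rfl

end transport

variable {G : Type*} [Group G]

/-- `θ` is fixed by conjugation by every element of `P`. -/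
def PInv (P H : Subgroup G) (θ : H → ℂ) : Prop :=
  ∀ x ∈ P, ∀ k k' : H, (k' : G) = x * (k : G) * x⁻¹ → θ k' = θ k

/-- `P` normalises `H`, elementwise. -/
def Normalises (P H : Subgroup G) : Prop := ∀ x ∈ P, ∀ h ∈ H, x * h * x⁻¹ ∈ H

theorem normalises_of_le_normalizer {P H : Subgroup G}
    (h : P ≤ Subgroup.normalizer (H : Set G)) : Normalises P H := fun _ hx _ hy =>
  (Subgroup.mem_normalizer_iff.1 (h hx) _).1 hy

variable {P H : Subgroup G}

/-- Conjugation by the inverse of `y ∈ P`, on `H`. -/
def conjAutInv (hn : Normalises P H) (y : P) : H ≃* H where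
  toFun k := ⟨(y : G)⁻¹ * k * y, by simpa using hn _ (inv_mem y.2) _ k.2⟩
  invFun k := ⟨(y : G) * k * (y : G)⁻¹, hn _ y.2 _ k.2⟩
  left_inv k := Subtype.ext (by group)
  right_inv k := Subtype.ext (by group)
  map_mul' a b := Subtype.ext (by simp [mul_assoc])

variable [Finite G]

/-- The conjugation action of `P` on the irreducible characters of `H`. -/
@[reducible] noncomputable def irrAction (hn : Normalises P H) :
    MulAction P (Cfsg.IrrCharacter H) where
  smul y θ := irrCongr (conjAutInv hn y) θ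
  one_smul θ := Subtype.ext (funext fun k => by
    show (θ : H → ℂ) (conjAutInv hn 1 k) = _
    exact congrArg _ (Subtype.ext (by simp [conjAutInv])))
  mul_smul y z θ := Subtype.ext (funext fun k => by
    show (θ : H → ℂ) (conjAutInv hn (y * z) k) =
      (θ : H → ℂ) (conjAutInv hn z (conjAutInv hn y k))
    exact congrArg _ (Subtype.ext (by simp [conjAutInv, mul_assoc])))

theorem irrAction_apply (hn : Normalises P H) (y : P) (θ : Cfsg.IrrCharacter H) (k : H) :
    (((irrAction hn).smul y θ : Cfsg.IrrCharacter H) : H → ℂ) k =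
      (θ : H → ℂ) (conjAutInv hn y k) := rfl

theorem irrAction_eq_self_iff (hn : Normalises P H) (y : P) (θ : Cfsg.IrrCharacter H) :
    (irrAction hn).smul y θ = θ ↔
      ∀ k k' : H, (k' : G) = (y : G) * k * (y : G)⁻¹ → (θ : H → ℂ) k' = (θ : H → ℂ) k := by
  constructor
  · intro h k k' hk
    have h1 := congrArg (fun t : Cfsg.IrrCharacter H => (t : H → ℂ) k') h
    simp only [irrAction_apply] at h1
    rw [← h1]
    exact congrArg _ (Subtype.ext (by simp [conjAutInv, hk, mul_assoc]))
  · intro h
    apply Subtype.ext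
    funext k
    rw [irrAction_apply]
    exact (h _ _ (by simp [conjAutInv, mul_assoc])).symm

theorem pInv_iff_fixed (hn : Normalises P H) (θ : Cfsg.IrrCharacter H) :
    PInv P H (θ : H → ℂ) ↔ ∀ y : P, (irrAction hn).smul y θ = θ := by
  simp only [irrAction_eq_self_iff]
  exact ⟨fun h y => h _ y.2, fun h x hx => h ⟨x, hx⟩⟩

theorem pInv_iff_fixedPoints (hn : Normalises P H) (θ : Cfsg.IrrCharacter H) :
    PInv P H (θ : H → ℂ) ↔
      θ ∈ @MulAction.fixedPoints P (Cfsg.IrrCharacter H) _ (irrAction hn) :=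
  pInv_iff_fixed hn θ

variable {C : Subgroup G}

/-- The multiplicities of restriction are invariant under conjugation. -/
theorem classInner_res_smul [Fintype C] (hnH : Normalises P H) (hnC : Normalises P C) (hCH : C ≤ H)
    (y : P) (χ : Cfsg.IrrCharacter H) (ξ : Cfsg.IrrCharacter C) :
    Cfsg.classInner (fun c : C => (((irrAction hnH).smul y χ : Cfsg.IrrCharacter H) : H → ℂ)
        (Subgroup.inclusion hCH c))
      (((irrAction hnC).smul y ξ : Cfsg.IrrCharacter C) : C → ℂ) =
    Cfsg.classInner (fun c : C => (χ : H → ℂ) (Subgroup.inclusion hCH c)) (ξ : C → ℂ) := by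
  rw [← classInner_comp_mulEquiv (conjAutInv hnC y)
    (fun c : C => (χ : H → ℂ) (Subgroup.inclusion hCH c)) (ξ : C → ℂ)]
  rfl

/-- Modulo `p`, a conjugation-invariant sum over irreducible characters reduces to the invariant
ones. -/
theorem sum_irr_mod_p {p : ℕ} [Fact p.Prime] (hP : IsPGroup p P) (hn : Normalises P H)
    [Fintype (Cfsg.IrrCharacter H)] (F : Cfsg.IrrCharacter H → ZMod p)
    (hF : ∀ (y : P) θ, F ((irrAction hn).smul y θ) = F θ) :
    ∑ θ, F θ = ∑ θ ∈ Finset.univ.filter (fun θ : Cfsg.IrrCharacter H => PInv P H (θ : H → ℂ)), F θ := by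
  letI := irrAction hn
  rw [← Finset.sum_filter_add_sum_filter_not Finset.univ
    (fun θ : Cfsg.IrrCharacter H => PInv P H (θ : H → ℂ)) F, add_eq_left]
  let T : SubMulAction P (Cfsg.IrrCharacter H) :=
    { carrier := {θ | ¬ PInv P H (θ : H → ℂ)}
      smul_mem' := fun y θ hθ hfix => hθ <| by
        rw [pInv_iff_fixed hn] at hfix ⊢
        intro z
        apply MulAction.injective y
        have := hfix (y * z * y⁻¹)
        show y • z • θ = y • θ
        change (y * z * y⁻¹) • y • θ = y • θ at this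
        rw [← this, smul_smul, smul_smul]
        congr 1
        group }
  rw [Finset.sum_subtype (p := fun θ => θ ∈ T) _ (fun θ => by
    show θ ∈ _ ↔ ¬ PInv P H (θ : H → ℂ)
    simp) F]
  refine sum_invariant_eq_zero (k := ZMod p) (p := p) hP (ι := T) ?_ _ ?_
  · intro θ
    obtain ⟨y, hy⟩ : ∃ y : P, y • (θ : Cfsg.IrrCharacter H) ≠ θ := by
      by_contra hc
      push Not at hc
      exact θ.2 ((pInv_iff_fixed hn _).2 hc)
    exact ⟨y, fun e => hy (congrArg Subtype.val e)⟩
  · intro y θ
    exact hF y θ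

/-- If exactly one point of a `P`-stable set is fixed by `x ∈ P`, that point is fixed by `P`. -/
theorem fixed_of_unique_fixed {p : ℕ} [Fact p.Prime] {ι : Type*} [MulAction P ι] [Finite ι]
    (hP : IsPGroup p P) (x : P) (i : ι) (hxi : x • i = i)
    (huniq : ∀ y : P, x • (y • i) = y • i → y • i = i) (y : P) : y • i = i := by
  let O := MulAction.orbit P i
  let Z : Subgroup P := Subgroup.zpowers x
  have hfix : MulAction.fixedPoints Z O = {⟨i, MulAction.mem_orbit_self i⟩} := by
    ext ⟨j, hj⟩
    simp only [MulAction.mem_fixedPoints, Set.mem_singleton_iff, Subtype.mk.injEq]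
    constructor
    · intro h
      obtain ⟨z, rfl⟩ := hj
      exact huniq z (congrArg Subtype.val (h ⟨x, Subgroup.mem_zpowers x⟩))
    · rintro rfl ⟨z, hz⟩
      apply Subtype.ext
      show z • j = j
      obtain ⟨k, rfl⟩ := Subgroup.mem_zpowers_iff.1 hz
      exact MulAction.mem_stabilizer_iff.1 (zpow_mem (MulAction.mem_stabilizer_iff.2 hxi) k)
  have hmod := (hP.to_subgroup Z).card_modEq_card_fixedPoints O
  rw [hfix, show Nat.card ↑({(⟨i, MulAction.mem_orbit_self i⟩ : O)} : Set O) = 1 by simp] at hmod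
  obtain ⟨n, hn⟩ := hP.card_orbit i
  rcases Nat.eq_zero_or_pos n with rfl | hpos
  · rw [pow_zero, Nat.card_eq_one_iff_unique] at hn
    exact congrArg Subtype.val (hn.1.elim (⟨y • i, MulAction.mem_orbit i y⟩ : O)
      ⟨i, MulAction.mem_orbit_self i⟩)
  · exfalso
    change Nat.card O ≡ 1 [MOD p] at hmod
    rw [hn] at hmod
    have h0 : p ^ n % p = 0 := Nat.mod_eq_zero_of_dvd (dvd_pow_self p hpos.ne')
    rw [Nat.ModEq, h0, Nat.one_mod_eq_one.2 (Fact.out : p.Prime).ne_one] at hmod
    exact zero_ne_one hmod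

end CfsgLib.RelGlauberman
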