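import Cfsg.Agent.RelGlauberman.Action
import Cfsg.Agent.Blocks.LocalRing

/-!
# Invariant real characters and classes under coprime action of a `p`-group

For a `p`-group `P` normalising a `p'`-subgroup `K`, the class functions on `K` with values in a
field of characteristic `p` have two bases permuted by `P` and by inversion (the classes and the
irreducible characters), so they contain equally many `P`-fixed real members.
-/

namespace CfsgLib.RelGlauberman

open CfsgLib.Characters CfsgLib.Blocks
open scoped ComplexConjugate Classical

variable {G : Type*} [Group G]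

/-- Inversion on conjugacy classes. -/
def classInv {H : Type*} [Group H] : ConjClasses H → ConjClasses H :=
  Quotient.map (·⁻¹) fun a b h => by
    obtain ⟨c, hc⟩ := isConj_iff.1 h
    exact isConj_iff.2 ⟨c, by rw [← hc]; group⟩

theorem classInv_mk {H : Type*} [Group H] (k : H) :
    classInv (ConjClasses.mk k) = ConjClasses.mk k⁻¹ := rfl

theorem classInv_classInv {H : Type*} [Group H] (c : ConjClasses H) : classInv (classInv c) = c := by
  induction c using Quotient.inductionOn with
  | h a => exact (congrArg classInv (classInv_mk a)).trans ((classInv_mk a⁻¹).trans (by rw [inv_inv]; rfl))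

variable {P H : Subgroup G}

/-- The action of `P` on the conjugacy classes of `H`. -/
@[reducible] noncomputable def classAction (hn : Normalises P H) :
    MulAction P (ConjClasses H) where
  smul y c := ConjClasses.map (conjAutInv hn y).symm.toMonoidHom c
  one_smul c := by
    induction c using Quotient.inductionOn with
    | h a => exact congrArg ConjClasses.mk (Subtype.ext (by simp [conjAutInv]))
  mul_smul y z c := by
    induction c using Quotient.inductionOn with
    | h a => exact congrArg ConjClasses.mk (Subtype.ext (by simp [conjAutInv, mul_assoc]))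

theorem classAction_mk (hn : Normalises P H) (y : P) (k : H) :
    (classAction hn).smul y (ConjClasses.mk k) = ConjClasses.mk ((conjAutInv hn y).symm k) := rfl

variable [Finite G]

/-- The complex conjugate of an irreducible character. -/
noncomputable def irrConj {A : Type*} [Group A] [Finite A] (θ : Cfsg.IrrCharacter A) :
    Cfsg.IrrCharacter A :=
  ⟨fun a => conj ((θ : A → ℂ) a), by
    letI := Fintype.ofFinite A
    refine isIrr_of_classInner_self (isCharacter_conj (isCharacter_of_isIrr θ.2)) ?_
    rw [classInner_conj_conj, classInner_isIrr_self θ.2, map_one]⟩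

/-- The count of fixed real irreducible characters equals that of fixed real classes. -/
theorem card_real_inv {p : ℕ} [Fact p.Prime] (hP : IsPGroup p P) (hn : Normalises P H)
    (hH : ¬ p ∣ Nat.card H) :
    Nat.card {θ : Cfsg.IrrCharacter H //
      (∀ k : H, ((θ : H → ℂ) k).im = 0) ∧ PInv P H (θ : H → ℂ)} =
    Nat.card {c : ConjClasses H //
      classInv c = c ∧ ∀ y : P, (classAction hn).smul y c = c} := by
  obtain ⟨M, hM⟩ := exists_isPModular p (Fact.out : p.Prime)
  haveI := IsPModular.isPrime hM
  haveI := charP_res hM
  letI := Fintype.ofFinite H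
  letI : Fintype (Cfsg.IrrCharacter H) := Fintype.ofFinite _
  letI : Fintype (ConjClasses H) := Fintype.ofFinite _
  letI := irrAction hn
  letI := classAction hn
  -- reductions of character values
  let lift : Cfsg.IrrCharacter H → H → localRing M := fun θ k =>
    ⟨(θ : H → ℂ) k, memLocalRing_of_isIntegral (character_isIntegral (isCharacter_of_isIrr θ.2) k)⟩
  have hlift : ∀ θ k h, lift θ (h * k * h⁻¹) = lift θ k := fun θ k h =>
    Subtype.ext (isClassFunction_of_isIrr θ.2 k h)
  let bar : Cfsg.IrrCharacter H → ConjClasses H → Res M := fun θ =>
    Quotient.lift (fun k => red M (lift θ k)) fun a b h => by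
      obtain ⟨c, rfl⟩ := isConj_iff.1 h
      rw [hlift]
  have hbar : ∀ θ k, bar θ (ConjClasses.mk k) = red M (lift θ k) := fun _ _ => rfl
  have horth : ∀ θ ψ : Cfsg.IrrCharacter H, ∑ k : H, lift θ k * lift ψ k⁻¹ =
      if θ = ψ then (Nat.card H : localRing M) else 0 := by
    intro θ ψ
    apply Subtype.ext
    rw [AddSubmonoidClass.coe_finsetSum]
    have h := classInner_irr θ ψ
    rw [Cfsg.classInner, inv_mul_eq_iff_eq_mul₀ natCard_ne_zero] at h
    simp only [Subring.coe_mul, lift]
    simp_rw [character_inv (isCharacter_of_isIrr ψ.2)]
    rw [h]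
    split_ifs <;> simp
  have hli : LinearIndependent (Res M) bar := by
    rw [Fintype.linearIndependent_iff]
    intro c hc ψ
    have h0 : ∀ k : H, ∑ θ, c θ * red M (lift θ k) = 0 := fun k => by
      simpa [hbar] using congrFun hc (ConjClasses.mk k)
    have h1 : ∑ k : H, (∑ θ, c θ * red M (lift θ k)) * red M (lift ψ k⁻¹) = 0 := by simp [h0]
    simp_rw [Finset.sum_mul, mul_assoc] at h1
    rw [Finset.sum_comm] at h1
    simp_rw [← Finset.mul_sum, ← map_mul, ← map_sum, horth, apply_ite (red M), map_zero, mul_ite,
      mul_zero, Finset.sum_ite_eq', Finset.mem_univ, if_true, map_natCast] at h1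
    exact (mul_eq_zero.1 h1).resolve_right fun h => hH ((red_natCast_eq_zero_iff hM _).1 h)
  have hcard : Fintype.card (Cfsg.IrrCharacter H) =
      Module.finrank (Res M) (ConjClasses H → Res M) := by
    rw [Module.finrank_fintype_fun_eq_card, ← Nat.card_eq_fintype_card, ← Nat.card_eq_fintype_card]
    exact card_irrCharacter
  haveI := isIrreducible_of_finrank_eq_one (Representation.trivial ℂ H ℂ) (by simp)
  haveI : Nonempty (Cfsg.IrrCharacter H) := ⟨irrOf (Representation.trivial ℂ H ℂ)⟩
  let b₁ := basisOfLinearIndependentOfCardEqFinrank hli hcard
  let b₂ := Pi.basisFun (Res M) (ConjClasses H)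
  have hb₁ : ∀ θ, b₁ θ = bar θ := fun θ => by simp [b₁]
  let ρ : P → (ConjClasses H → Res M) →ₗ[Res M] (ConjClasses H → Res M) := fun y =>
    LinearMap.funLeft (Res M) (Res M) (ConjClasses.map (conjAutInv hn y).toMonoidHom)
  let σ : (ConjClasses H → Res M) →ₗ[Res M] (ConjClasses H → Res M) :=
    LinearMap.funLeft (Res M) (Res M) classInv
  have hcomp : ∀ (y : P) (c : ConjClasses H),
      ConjClasses.map (conjAutInv hn y).toMonoidHom ((classAction hn).smul y c) = c := by
    intro y c
    induction c using Quotient.inductionOn with
    | h a => exact congrArg ConjClasses.mk ((conjAutInv hn y).apply_symm_apply a)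
  have key := card_fixed_eq (p := p) ρ b₁ b₂ hP
    (fun y θ => by
      rw [hb₁, hb₁]
      funext c
      induction c using Quotient.inductionOn with
      | h a =>
        show bar θ (ConjClasses.mk (conjAutInv hn y a)) = bar (y • θ) (ConjClasses.mk a)
        rw [hbar, hbar]
        rfl)
    (fun y c => by
      funext d
      simp only [b₂, Pi.basisFun_apply, ρ, LinearMap.funLeft_apply]
      by_cases h : d = y • c
      · subst h
        show (Pi.single c (1 : Res M) : ConjClasses H → Res M)
          (ConjClasses.map _ ((classAction hn).smul y c)) = _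
        rw [hcomp, Pi.single_eq_same, Pi.single_eq_same]
      · rw [Pi.single_eq_of_ne h, Pi.single_eq_of_ne]
        intro he
        apply h
        rw [← he]
        induction d using Quotient.inductionOn with
        | h a => exact (congrArg ConjClasses.mk ((conjAutInv hn y).symm_apply_apply a)).symm)
    σ
    (fun y v => by
      funext c
      induction c using Quotient.inductionOn with
      | h a =>
        show v (ConjClasses.mk (conjAutInv hn y a⁻¹)) = v (ConjClasses.mk (conjAutInv hn y a)⁻¹)
        rw [map_inv])
    (fun θ => irrConj θ) classInv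
    (fun θ => by
      rw [hb₁, hb₁]
      funext c
      induction c using Quotient.inductionOn with
      | h a =>
        show bar θ (ConjClasses.mk a⁻¹) = bar (irrConj θ) (ConjClasses.mk a)
        rw [hbar, hbar]
        congr 1
        exact Subtype.ext (character_inv (isCharacter_of_isIrr θ.2) a))
    (fun c => by
      funext d
      simp only [b₂, Pi.basisFun_apply, σ, LinearMap.funLeft_apply]
      by_cases h : d = classInv c
      · subst h; rw [classInv_classInv, Pi.single_eq_same, Pi.single_eq_same]
      · rw [Pi.single_eq_of_ne h, Pi.single_eq_of_ne]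
        intro he; apply h; rw [← he, classInv_classInv])
    (fun θ => Subtype.ext (funext fun a => Complex.conj_conj _))
    classInv_classInv
  refine Eq.trans ?_ key
  refine Nat.card_congr (Equiv.subtypeEquivRight fun θ => and_congr ?_ (pInv_iff_fixed hn θ))
  rw [Subtype.ext_iff, funext_iff]
  exact forall_congr' fun k => Complex.conj_eq_iff_im.symm

end CfsgLib.RelGlauberman
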